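import Mathlib.GroupTheory.Sylow
import Mathlib.GroupTheory.Nilpotent
import Mathlib.Data.Set.Finite.Lemmas

/-!
# The Baer–Suzuki theorem

The short proof of Alperin and Lyons.
-/

set_option autoImplicit false

open scoped Pointwise

namespace Cfsg.Agent.Involution

open Subgroup

variable {G : Type*} [Group G]

/-- An element that normalises a generating set normalises the subgroup it generates. -/
theorem mem_normalizer_closure_of_conj [Finite G] {A : Set G} {z : G}
    (hA : ∀ a ∈ A, z * a * z⁻¹ ∈ A) : z ∈ normalizer (closure A : Set G) := by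
  have hmap : (closure A).map (MulAut.conj z).toMonoidHom = closure A := by
    apply le_antisymm
    · rw [MonoidHom.map_closure, closure_le]
      rintro _ ⟨a, ha, rfl⟩
      exact subset_closure (hA a ha)
    · rw [MonoidHom.map_closure, closure_le]
      intro b hb
      have heq : (MulAut.conj z).toMonoidHom '' A = A := by
        apply Set.eq_of_subset_of_ncard_le
        · rintro _ ⟨a, ha, rfl⟩
          exact hA a ha
        · exact (Set.ncard_image_of_injective A (MulAut.conj z).injective).ge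
        · exact Set.toFinite _
      exact subset_closure (heq.symm ▸ hb)
  exact mem_normalizer_iff_map_conj_eq.mpr hmap

/-- Conjugation carries a Sylow subgroup into the conjugate Sylow subgroup. -/
theorem conj_mem_sylow_smul {p : ℕ} {Q : Sylow p G} {z : G} (c : G) (hz : z ∈ Q) :
    c * z * c⁻¹ ∈ c • Q := by
  show MulAut.conj c • z ∈ MulAut.conj c • (Q : Subgroup G)
  exact smul_mem_pointwise_smul z _ _ hz

/-- In a finite `p`-group `P`, a conjugation-invariant set `K` meets `P ∩ N(D)` outside `Q`,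
where `D` is generated by `P ∩ Q ∩ K`, as soon as `P ∩ K` is not inside `Q`. -/
theorem exists_mem_normalizer_outside [Finite G] {p : ℕ} [Fact p.Prime] (K : Set G)
    (hK : ∀ g x : G, x ∈ K → g * x * g⁻¹ ∈ K) (P Q : Subgroup G) (hP : IsPGroup p P)
    (hne : ¬ ((P : Set G) ∩ K ⊆ Q)) :
    ∃ x ∈ P, x ∈ K ∧ x ∉ Q ∧
      x ∈ normalizer (closure ((P : Set G) ∩ Q ∩ K) : Set G) := by
  classical
  by_contra hcon
  push Not at hcon
  set D := closure ((P : Set G) ∩ Q ∩ K) with hD
  set N := (P ⊓ normalizer (D : Set G)).subgroupOf P with hN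
  have hsub : ∀ a ∈ P, a ∈ K → a ∈ normalizer (D : Set G) → a ∈ (P : Set G) ∩ Q ∩ K := by
    intro a haP haK haN
    refine ⟨⟨haP, ?_⟩, haK⟩
    by_contra haQ
    exact hcon a haP haK haQ haN
  have : Group.IsNilpotent P := hP.isNilpotent
  have htop : N = ⊤ := by
    by_contra hne'
    have hlt : N < normalizer (N : Set P) :=
      Group.normalizerCondition_of_isNilpotent N (lt_top_iff_ne_top.mpr hne')
    obtain ⟨z, hz, hzN⟩ := SetLike.exists_of_lt hlt
    apply hzN
    refine ⟨z.2, mem_normalizer_closure_of_conj ?_⟩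
    rintro a ⟨⟨haP, haQ⟩, haK⟩
    have haN : a ∈ normalizer (D : Set G) :=
      le_normalizer (subset_closure ⟨⟨haP, haQ⟩, haK⟩)
    have h1 : z * ⟨a, haP⟩ * z⁻¹ ∈ N := (mem_normalizer_iff.mp hz ⟨a, haP⟩).mp ⟨haP, haN⟩
    exact hsub _ h1.1 (hK _ _ haK) h1.2
  apply hne
  rintro a ⟨haP, haK⟩
  have h2 : (⟨a, haP⟩ : P) ∈ N := htop ▸ mem_top _
  exact (hsub a haP haK h2.2).1.2

/-- **Baer–Suzuki**, in the form for a normal subset: if any two elements of a conjugation-invariant
set generate a `p`-group, the whole set generates a `p`-group. -/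
theorem baerSuzuki_set [Finite G] {p : ℕ} [Fact p.Prime] (K : Set G)
    (hK : ∀ g x : G, x ∈ K → g * x * g⁻¹ ∈ K)
    (h : ∀ x ∈ K, ∀ y ∈ K, IsPGroup p (closure ({x, y} : Set G))) :
    IsPGroup p (closure K) := by
  classical
  by_cases hall : ∀ P Q : Sylow p G, (P : Set G) ∩ K = (Q : Set G) ∩ K
  · let P : Sylow p G := default
    refine P.isPGroup'.to_le ((closure_le _).2 ?_)
    intro x hx
    obtain ⟨Q, hQ⟩ := (h x hx x hx).exists_le_sylow
    have : x ∈ (Q : Set G) ∩ K := ⟨hQ (subset_closure (by simp)), hx⟩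
    exact (hall P Q ▸ this : x ∈ (P : Set G) ∩ K).1
  · exfalso
    let S : Set (Sylow p G × Sylow p G) :=
      {pq | (pq.1 : Set G) ∩ K ≠ (pq.2 : Set G) ∩ K}
    have hS : S.Nonempty := by
      push Not at hall
      obtain ⟨P, Q, hPQ⟩ := hall
      exact ⟨(P, Q), hPQ⟩
    obtain ⟨⟨P, Q⟩, hPQ, hmax⟩ := Set.exists_max_image S
      (fun pq => ((pq.1 : Set G) ∩ pq.2 ∩ K).ncard) (Set.toFinite _) hS
    have hcard : ∀ A B : Sylow p G, ((B : Set G) ∩ K).ncard ≤ ((A : Set G) ∩ K).ncard := by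
      intro A B
      obtain ⟨g, rfl⟩ := MulAction.exists_smul_eq G B A
      refine Set.ncard_le_ncard_of_injOn (fun x => g * x * g⁻¹) ?_ ?_ (Set.toFinite _)
      · rintro x ⟨hx, hxK⟩
        refine ⟨?_, hK g x hxK⟩
        show MulAut.conj g • x ∈ MulAut.conj g • (B : Subgroup G)
        exact smul_mem_pointwise_smul x _ _ hx
      · intro a _ b _ hab
        exact (MulAut.conj g).injective hab
    have hsub : ∀ A B : Sylow p G, (A : Set G) ∩ K ≠ (B : Set G) ∩ K →
        ¬ ((A : Set G) ∩ K ⊆ B) := fun A B hne hle =>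
      hne (Set.eq_of_subset_of_ncard_le (Set.subset_inter hle Set.inter_subset_right) (hcard A B))
    obtain ⟨x, hxP, hxK, hxQ, hxN⟩ :=
      exists_mem_normalizer_outside K hK (P : Subgroup G) Q P.isPGroup' (hsub P Q hPQ)
    obtain ⟨y, hyQ, hyK, hyP, hyN⟩ :=
      exists_mem_normalizer_outside K hK (Q : Subgroup G) P Q.isPGroup' (hsub Q P hPQ.symm)
    have hcomm : (((Q : Subgroup G) : Set G) ∩ (P : Subgroup G) ∩ K) =
        (((P : Subgroup G) : Set G) ∩ (Q : Subgroup G) ∩ K) := by
      rw [Set.inter_comm ((Q : Subgroup G) : Set G)]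
    rw [hcomm] at hyN
    set D := closure (((P : Subgroup G) : Set G) ∩ (Q : Subgroup G) ∩ K) with hD
    have hDp : IsPGroup p D :=
      P.isPGroup'.to_le ((closure_le _).2 fun a ha => ha.1.1)
    have hxy : closure ({x, y} : Set G) ≤ normalizer (D : Set G) := by
      rw [closure_le]
      rintro a (rfl | rfl)
      · exact hxN
      · exact hyN
    have hM : IsPGroup p (closure ({x, y} : Set G) ⊔ D : Subgroup G) :=
      (h x hxK y hyK).to_sup_of_normal_right' hDp hxy
    obtain ⟨R, hR⟩ := hM.exists_le_sylow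
    have hxR : x ∈ (R : Set G) := hR (le_sup_left (α := Subgroup G) (subset_closure (by simp)))
    have hyR : y ∈ (R : Set G) := hR (le_sup_left (α := Subgroup G) (subset_closure (by simp)))
    have hDR : ∀ a ∈ (P : Set G) ∩ Q ∩ K, a ∈ (R : Set G) := fun a ha =>
      hR (le_sup_right (α := Subgroup G) (subset_closure ha))
    have key : ∀ A : Sylow p G, ∀ z : G, (∀ a ∈ (P : Set G) ∩ Q ∩ K, a ∈ (A : Set G)) →
        z ∈ A → z ∈ K → z ∈ (R : Set G) → z ∉ (P : Set G) ∩ Q ∩ K →
        (A : Set G) ∩ K = (R : Set G) ∩ K := by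
      intro A z hA hzA hzK hzR hz
      by_contra hne
      have h1 := hmax (A, R) hne
      have h2 : ((P : Set G) ∩ Q ∩ K).ncard < ((A : Set G) ∩ R ∩ K).ncard := by
        apply Set.ncard_lt_ncard _ (Set.toFinite _)
        refine ⟨fun a ha => ⟨⟨hA a ha, hDR a ha⟩, ha.2⟩, ?_⟩
        intro hle
        exact hz (hle ⟨⟨hzA, hzR⟩, hzK⟩)
      exact absurd h1 (not_le.mpr h2)
    exact hPQ ((key P x (fun a ha => ha.1.1) hxP hxK hxR (fun ha => hxQ ha.1.2)).trans
      (key Q y (fun a ha => ha.1.2) hyQ hyK hyR (fun ha => hyP ha.1.1)).symm)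

/-- **Baer–Suzuki**: if `x` generates a `p`-group with each of its conjugates, it lies in a
normal `p`-subgroup. -/
theorem baerSuzuki [Finite G] {p : ℕ} [Fact p.Prime] (x : G)
    (h : ∀ g : G, IsPGroup p (closure ({x, g * x * g⁻¹} : Set G))) :
    ∃ N : Subgroup G, N.Normal ∧ IsPGroup p N ∧ x ∈ N := by
  refine ⟨normalClosure {x}, normalClosure_normal, ?_, subset_normalClosure (Set.mem_singleton x)⟩
  rw [normalClosure]
  refine baerSuzuki_set _ ?_ ?_
  · intro g a ha
    exact Group.conj_mem_conjugatesOfSet ha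
  · intro a ha b hb
    rw [Group.mem_conjugatesOfSet_iff] at ha hb
    obtain ⟨_, rfl, ha⟩ := ha
    obtain ⟨_, rfl, hb⟩ := hb
    obtain ⟨c, rfl⟩ := isConj_iff.mp ha
    obtain ⟨d, rfl⟩ := isConj_iff.mp hb
    have hmap := (h (c⁻¹ * d)).map (MulAut.conj c).toMonoidHom
    rw [MonoidHom.map_closure, Set.image_pair] at hmap
    convert hmap using 4 <;> simp [mul_assoc]

/-- The normal closure of a subgroup generating a `p`-group with each conjugate is a `p`-group. -/
theorem baerSuzuki_subgroup [Finite G] {p : ℕ} [Fact p.Prime] (X : Subgroup G)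
    (h : ∀ g : G, IsPGroup p ↥(X ⊔ X.map (MulAut.conj g).toMonoidHom)) :
    ∃ N : Subgroup G, N.Normal ∧ IsPGroup p N ∧ X ≤ N := by
  classical
  have key : ∀ x : G, x ∈ X → ∃ N : Subgroup G, N.Normal ∧ IsPGroup p N ∧ x ∈ N := by
    intro x hx
    refine baerSuzuki x fun g => (h g).to_le ((closure_le _).2 ?_)
    rintro a (rfl | rfl)
    · exact mem_sup_left hx
    · exact mem_sup_right ⟨x, hx, rfl⟩
  let P : Set (Subgroup G) := {N | N.Normal ∧ IsPGroup p N}
  obtain ⟨M, hM, hMmax⟩ := Set.exists_max_image P (fun N : Subgroup G => Nat.card N)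
    (Set.toFinite _) ⟨⊥, inferInstance, IsPGroup.of_bot⟩
  refine ⟨M, hM.1, hM.2, fun x hx => ?_⟩
  obtain ⟨N, hN, hNp, hxN⟩ := key x hx
  haveI := hM.1
  haveI := hN
  have hle : Nat.card (M ⊔ N : Subgroup G) ≤ Nat.card M :=
    hMmax _ ⟨inferInstance, hM.2.to_sup_of_normal_right hNp⟩
  have : M = M ⊔ N := eq_of_le_of_card_ge le_sup_left hle
  exact this ▸ mem_sup_right hxN

end Cfsg.Agent.Involution
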