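import Cfsg.Agent.Lib.Involution.Dihedral
import Mathlib.GroupTheory.GroupAction.Quotient
import Mathlib.GroupTheory.Index
import Mathlib.Data.Set.Finite.Lemmas
import Mathlib.Data.Finite.Perm
import Mathlib.Data.SetLike.Fintype
import Mathlib.Algebra.Group.Subgroup.Finite

/-!
# Counting involutions, real elements, and the Brauer–Fowler inequalities
-/

set_option autoImplicit false

namespace Cfsg.Agent.Involution

open Subgroup

variable {G : Type*} [Group G]

theorem mem_centralizer_singleton {x g : G} :
    g ∈ centralizer ({x} : Set G) ↔ g * x = x * g := by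
  simp [mem_centralizer_iff, eq_comm]

/-- The size of a conjugacy class times the order of the centraliser is the group order. -/
theorem card_isConj_mul_card_centralizer [Finite G] (x : G) :
    Nat.card {y : G // IsConj x y} * Nat.card (centralizer ({x} : Set G)) = Nat.card G := by
  have key : ∀ a b : G, a⁻¹ * b ∈ centralizer ({x} : Set G) ↔ a * x * a⁻¹ = b * x * b⁻¹ := by
    intro a b
    rw [mem_centralizer_singleton]
    constructor
    · intro h
      calc a * x * a⁻¹ = a * (x * (a⁻¹ * b)) * b⁻¹ := by group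
        _ = a * (a⁻¹ * b * x) * b⁻¹ := by rw [h]
        _ = b * x * b⁻¹ := by group
    · intro h
      calc a⁻¹ * b * x = a⁻¹ * (b * x * b⁻¹) * b := by group
        _ = a⁻¹ * (a * x * a⁻¹) * b := by rw [h]
        _ = x * (a⁻¹ * b) := by group
  let f : G ⧸ centralizer ({x} : Set G) → {y : G // IsConj x y} := fun q =>
    Quotient.liftOn' q (fun g => ⟨g * x * g⁻¹, isConj_iff.mpr ⟨g, rfl⟩⟩)
      (fun a b h => Subtype.ext ((key a b).mp (QuotientGroup.leftRel_apply.mp h)))
  have hf : Function.Bijective f := by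
    constructor
    · rintro ⟨a⟩ ⟨b⟩ h
      exact QuotientGroup.eq.mpr ((key a b).mpr (congrArg Subtype.val h))
    · rintro ⟨y, hy⟩
      obtain ⟨g, rfl⟩ := isConj_iff.mp hy
      exact ⟨(g : G ⧸ centralizer ({x} : Set G)), rfl⟩
  rw [← Nat.card_eq_of_bijective f hf, ← card_eq_card_quotient_mul_card_subgroup]

/-- The elements inverting a real element form a coset of its centraliser. -/
theorem card_inverting_eq_centralizer {x g₀ : G} (hg₀ : g₀ * x * g₀⁻¹ = x⁻¹) :
    Nat.card {g : G // g * x * g⁻¹ = x⁻¹} = Nat.card (centralizer ({x} : Set G)) := by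
  refine Nat.card_congr ((Equiv.mulLeft g₀⁻¹).subtypeEquiv fun g => ?_)
  show g * x * g⁻¹ = x⁻¹ ↔ g₀⁻¹ * g ∈ centralizer ({x} : Set G)
  rw [mem_centralizer_singleton]
  constructor
  · intro h
    calc g₀⁻¹ * g * x = g₀⁻¹ * (g * x * g⁻¹) * g := by group
      _ = g₀⁻¹ * (g₀ * x * g₀⁻¹) * g := by rw [h, hg₀]
      _ = x * (g₀⁻¹ * g) := by group
  · intro h
    calc g * x * g⁻¹ = g₀ * (g₀⁻¹ * g * x) * g⁻¹ := by group
      _ = g₀ * (x * (g₀⁻¹ * g)) * g⁻¹ := by rw [h]
      _ = g₀ * x * g₀⁻¹ := by group
      _ = x⁻¹ := hg₀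

/-- The left factor of a product of two involutions inverts it. -/
theorem conj_eq_inv_of_pair {x u v : G} (hu : orderOf u = 2) (hv : orderOf v = 2)
    (h : u * v = x) : u * x * u⁻¹ = x⁻¹ :=
  h ▸ inverts_mul (mul_self_of_orderOf hu) (mul_self_of_orderOf hv)

/-- Pairs of involutions with product `x` correspond to their first entries. -/
theorem card_pairs_eq (x : G) :
    Nat.card {p : G × G // orderOf p.1 = 2 ∧ orderOf p.2 = 2 ∧ p.1 * p.2 = x} =
      Nat.card {t : G // orderOf t = 2 ∧ orderOf (t * x) = 2} := by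
  refine Nat.card_congr
    { toFun := fun p => ⟨p.1.1, p.2.1, by
        have h := p.2.2.2
        have h1 : p.1.1 * x = p.1.2 := by
          calc p.1.1 * x = p.1.1 * (p.1.1 * p.1.2) := by rw [h]
            _ = p.1.2 := by rw [← mul_assoc, mul_self_of_orderOf p.2.1, one_mul]
        rw [h1]; exact p.2.2.1⟩
      invFun := fun t => ⟨(t.1, t.1 * x), t.2.1, t.2.2, by
        rw [← mul_assoc, mul_self_of_orderOf t.2.1, one_mul]⟩
      left_inv := ?_
      right_inv := fun t => rfl }
  rintro ⟨⟨u, v⟩, hu, hv, h⟩
  ext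
  · rfl
  · show u * x = v
    rw [← h, ← mul_assoc, mul_self_of_orderOf hu, one_mul]

theorem card_pairs_le_centralizer [Finite G] (x : G) :
    Nat.card {p : G × G // orderOf p.1 = 2 ∧ orderOf p.2 = 2 ∧ p.1 * p.2 = x} ≤
      Nat.card (centralizer ({x} : Set G)) := by
  rcases isEmpty_or_nonempty
    {p : G × G // orderOf p.1 = 2 ∧ orderOf p.2 = 2 ∧ p.1 * p.2 = x} with h | h
  · simp
  · obtain ⟨⟨u, v⟩, hu, hv, huv⟩ := h
    rw [← card_inverting_eq_centralizer (conj_eq_inv_of_pair hu hv huv)]
    refine Nat.card_le_card_of_injective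
      (fun p => ⟨p.1.1, conj_eq_inv_of_pair p.2.1 p.2.2.1 p.2.2.2⟩) ?_
    rintro ⟨⟨a, b⟩, ha, hb, hab⟩ ⟨⟨c, d⟩, hc, hd, hcd⟩ he
    have hac : a = c := congrArg Subtype.val he
    subst hac
    have hbd : b = d := mul_left_cancel (hab.trans hcd.symm)
    subst hbd
    rfl

/-- For `x² ≠ 1`, pairs with product `x` correspond to the involutions inverting `x`. -/
theorem card_pairs_eq_inverting {x : G} (hx : x ^ 2 ≠ 1) :
    Nat.card {p : G × G // orderOf p.1 = 2 ∧ orderOf p.2 = 2 ∧ p.1 * p.2 = x} =
      Nat.card {t : G // orderOf t = 2 ∧ t * x * t⁻¹ = x⁻¹} := by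
  rw [card_pairs_eq]
  refine Nat.card_congr (Equiv.subtypeEquivRight fun t => ?_)
  constructor
  · rintro ⟨h1, h2⟩
    exact ⟨h1, conj_eq_inv_of_pair h1 h2 (by rw [← mul_assoc, mul_self_of_orderOf h1, one_mul])⟩
  · rintro ⟨h1, h2⟩
    refine ⟨h1, orderOf_eq_two_iff'.mpr ⟨?_, fun h => hx ?_⟩⟩
    · rw [inv_of_orderOf h1] at h2
      rw [← mul_assoc, h2, inv_mul_cancel]
    · rw [← eq_inv_of_mul_eq_one_right h |>.symm, inv_of_orderOf h1, sq, mul_self_of_orderOf h1]

/-- For an involution `x`: pairs with product `x`, plus one, are the involutions centralising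
`x`. -/
theorem card_pairs_add_one [Finite G] {x : G} (hx : orderOf x = 2) :
    Nat.card {p : G × G // orderOf p.1 = 2 ∧ orderOf p.2 = 2 ∧ p.1 * p.2 = x} + 1 =
      Nat.card {t : G // orderOf t = 2 ∧ Commute t x} := by
  classical
  haveI := Fintype.ofFinite G
  rw [card_pairs_eq, Nat.card_eq_fintype_card, Fintype.card_subtype, Nat.card_eq_fintype_card,
    Fintype.card_subtype]
  have heq : (Finset.univ.filter fun t : G => orderOf t = 2 ∧ orderOf (t * x) = 2) =
      (Finset.univ.filter fun t : G => orderOf t = 2 ∧ Commute t x).erase x := by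
    ext t
    simp only [Finset.mem_filter, Finset.mem_univ, true_and, Finset.mem_erase]
    constructor
    · rintro ⟨h1, h2⟩
      refine ⟨fun h => ?_, h1, ?_⟩
      · rw [h, mul_self_of_orderOf hx, orderOf_one] at h2
        exact absurd h2 (by norm_num)
      · have h := inv_of_orderOf h2
        rw [mul_inv_rev, inv_of_orderOf h1, inv_of_orderOf hx] at h
        exact h.symm
    · rintro ⟨hne, h1, hc⟩
      refine ⟨h1, orderOf_eq_two_iff'.mpr ⟨?_, fun h => hne ?_⟩⟩
      · rw [mul_assoc, ← mul_assoc x t, ← hc.eq, mul_assoc t x, mul_self_of_orderOf hx, mul_one,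
          mul_self_of_orderOf h1]
      · rw [eq_inv_of_mul_eq_one_left h, inv_of_orderOf hx]
  rw [heq, Finset.card_erase_add_one (by simp [hx])]

theorem card_pairs_add_two_le [Finite G] {x : G} (hx : orderOf x = 2) :
    Nat.card {p : G × G // orderOf p.1 = 2 ∧ orderOf p.2 = 2 ∧ p.1 * p.2 = x} + 2 ≤
      Nat.card (centralizer ({x} : Set G)) := by
  classical
  haveI := Fintype.ofFinite G
  have hC : Nat.card (centralizer ({x} : Set G)) =
      (Finset.univ.filter fun t : G => t * x = x * t).card := by
    rw [← Fintype.card_subtype, ← Nat.card_eq_fintype_card]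
    exact Nat.card_congr (Equiv.subtypeEquivRight fun t => mem_centralizer_singleton)
  have h1 := card_pairs_add_one hx
  rw [Nat.card_eq_fintype_card (α := {t : G // orderOf t = 2 ∧ Commute t x}),
    Fintype.card_subtype] at h1
  rw [hC, ← Finset.card_erase_add_one (show (1 : G) ∈ _ by simp)]
  have h2 : (Finset.univ.filter fun t : G => orderOf t = 2 ∧ Commute t x).card ≤
      ((Finset.univ.filter fun t : G => t * x = x * t).erase 1).card := by
    refine Finset.card_le_card fun t ht => ?_
    simp only [Finset.mem_filter, Finset.mem_univ, true_and] at ht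
    simpa [ne_one_of_orderOf ht.1] using ht.2.eq
  omega

theorem eq_one_of_no_reality {x : G} (h : ¬ IsConj x x⁻¹) :
    Nat.card {p : G × G // orderOf p.1 = 2 ∧ orderOf p.2 = 2 ∧ p.1 * p.2 = x} = 0 := by
  haveI : IsEmpty {p : G × G // orderOf p.1 = 2 ∧ orderOf p.2 = 2 ∧ p.1 * p.2 = x} :=
    ⟨fun p => h (isConj_iff.mpr ⟨p.1.1, conj_eq_inv_of_pair p.2.1 p.2.2.1 p.2.2.2⟩)⟩
  exact Nat.card_of_isEmpty

/-- A finite group has a proper subgroup of largest order. -/
theorem exists_largest_proper [Finite G] [Nontrivial G] :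
    ∃ H : Subgroup G, H ≠ ⊤ ∧ ∀ K : Subgroup G, K ≠ ⊤ → Nat.card K ≤ Nat.card H := by
  obtain ⟨H, hH, hmax⟩ := Set.exists_max_image {K : Subgroup G | K ≠ ⊤}
    (fun K : Subgroup G => Nat.card K) (Set.toFinite _) ⟨⊥, bot_ne_top⟩
  exact ⟨H, hH, hmax⟩

/-- The **Brauer–Fowler count**: if the pairs with a given product are bounded by `b` for
non-identity products, then `n * n ≤ n + ∑ b`. -/
theorem involution_sq_le [Fintype G] (b : G → ℕ)
    (hb : ∀ x : G, x ≠ 1 →
      Nat.card {p : G × G // orderOf p.1 = 2 ∧ orderOf p.2 = 2 ∧ p.1 * p.2 = x} ≤ b x)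
    [DecidableEq G] :
    Nat.card {t : G // orderOf t = 2} * Nat.card {t : G // orderOf t = 2} ≤
      Nat.card {t : G // orderOf t = 2} + ∑ x ∈ Finset.univ.erase (1 : G), b x := by
  classical
  let c : G → ℕ := fun x =>
    Nat.card {p : G × G // orderOf p.1 = 2 ∧ orderOf p.2 = 2 ∧ p.1 * p.2 = x}
  have htot : Nat.card {t : G // orderOf t = 2} * Nat.card {t : G // orderOf t = 2} =
      ∑ x, c x := by
    rw [← Nat.card_prod, ← Nat.card_sigma]
    refine Nat.card_congr
      { toFun := fun q => ⟨q.1.1 * q.2.1, ⟨(q.1.1, q.2.1), q.1.2, q.2.2, rfl⟩⟩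
        invFun := fun s => (⟨s.2.1.1, s.2.2.1⟩, ⟨s.2.1.2, s.2.2.2.1⟩)
        left_inv := fun q => rfl
        right_inv := ?_ }
    rintro ⟨x, ⟨⟨u, v⟩, hu, hv, rfl⟩⟩
    rfl
  have h1 : c 1 = Nat.card {t : G // orderOf t = 2} := by
    show Nat.card _ = _
    rw [card_pairs_eq]
    exact Nat.card_congr (Equiv.subtypeEquivRight fun t => by simp)
  rw [htot, ← Finset.add_sum_erase _ _ (Finset.mem_univ (1 : G)), h1]
  exact Nat.add_le_add_left (Finset.sum_le_sum fun x hx => hb x (Finset.ne_of_mem_erase hx)) _

/-- With `h` bounding the centralisers of non-central elements and no central involution,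
`n (n + 1) + h ≤ h |G|`. -/
theorem involution_bound [Finite G] {h : ℕ}
    (hh : ∀ x : G, x ∉ center G → Nat.card (centralizer ({x} : Set G)) ≤ h)
    (hZ : ∀ t : G, orderOf t = 2 → t ∉ center G) :
    Nat.card {t : G // orderOf t = 2} * (Nat.card {t : G // orderOf t = 2} + 1) + h ≤
      h * Nat.card G := by
  classical
  haveI := Fintype.ofFinite G
  set n := Nat.card {t : G // orderOf t = 2} with hn
  have hle := involution_sq_le (G := G)
    (fun x => h - if orderOf x = 2 then 2 else 0) (by
      intro x hx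
      by_cases h2 : orderOf x = 2
      · simp only [h2, if_true]
        have := card_pairs_add_two_le h2
        have := hh x (hZ x h2)
        omega
      · simp only [h2, if_false, Nat.sub_zero]
        by_cases hxc : x ∈ center G
        · rw [eq_one_of_no_reality]
          · exact Nat.zero_le _
          · rintro hconj
            obtain ⟨g, hg⟩ := isConj_iff.mp hconj
            rw [Subgroup.mem_center_iff.mp hxc g, mul_inv_cancel_right] at hg
            exact h2 (orderOf_eq_two_iff'.mpr ⟨by nth_rewrite 1 [hg]; exact inv_mul_cancel x, hx⟩)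
        · exact (card_pairs_le_centralizer x).trans (hh x hxc))
  have hsum : (∑ x ∈ Finset.univ.erase (1 : G), (h - if orderOf x = 2 then 2 else 0)) + 2 * n + h ≤
      h * Nat.card G := by
    have h2n : ∑ x ∈ Finset.univ.erase (1 : G), (if orderOf x = 2 then 2 else 0) = 2 * n := by
      rw [Finset.sum_ite, Finset.sum_const_zero, add_zero, Finset.sum_const, smul_eq_mul, mul_comm]
      congr 1
      rw [hn, Nat.card_eq_fintype_card, Fintype.card_subtype]
      congr 1
      ext t
      simp only [Finset.mem_filter, Finset.mem_erase, Finset.mem_univ, and_true, true_and,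
        and_iff_right_iff_imp]
      exact ne_one_of_orderOf
    have hadd : ∀ x ∈ Finset.univ.erase (1 : G),
        (h - if orderOf x = 2 then 2 else 0) + (if orderOf x = 2 then 2 else 0) = h := by
      intro x _
      split
      · next h2 =>
        have := card_pairs_add_two_le h2
        have := hh x (hZ x h2)
        omega
      · rfl
    have := Finset.sum_congr rfl hadd
    rw [Finset.sum_add_distrib, h2n, Finset.sum_const, smul_eq_mul, mul_comm,
      Finset.card_erase_of_mem (Finset.mem_univ _), Finset.card_univ,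
      ← Nat.card_eq_fintype_card] at this
    obtain ⟨k, hk⟩ : ∃ k, Nat.card G = k + 1 := ⟨Nat.card G - 1, by have := Nat.card_pos (α := G); omega⟩
    rw [hk, Nat.add_sub_cancel] at this
    rw [hk, mul_add, mul_one, mul_comm h k]
    omega
  rw [mul_add, mul_one]
  rw [← hn] at hle
  omega

/-- If `x ≠ x⁻¹` is real, its centraliser has index 2 in a subgroup. -/
theorem exists_extended_centralizer [Finite G] {x g₀ : G} (hg₀ : g₀ * x * g₀⁻¹ = x⁻¹)
    (hx : x ^ 2 ≠ 1) :
    ∃ C' : Subgroup G, Nat.card C' = 2 * Nat.card (centralizer ({x} : Set G)) := by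
  classical
  haveI := Fintype.ofFinite G
  let C' : Subgroup G :=
    { carrier := {g | g * x * g⁻¹ = x ∨ g * x * g⁻¹ = x⁻¹}
      one_mem' := Or.inl (by simp)
      mul_mem' := by
        intro a b ha hb
        have e : a * b * x * (a * b)⁻¹ = a * (b * x * b⁻¹) * a⁻¹ := by group
        show a * b * x * (a * b)⁻¹ = x ∨ a * b * x * (a * b)⁻¹ = x⁻¹
        rw [e]
        rcases hb with hb | hb <;> rw [hb]
        · exact ha
        · rw [← conj_inv]
          rcases ha with ha | ha <;> rw [ha]
          · exact Or.inr rfl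
          · exact Or.inl (inv_inv x)
      inv_mem' := by
        intro a ha
        show a⁻¹ * x * a⁻¹⁻¹ = x ∨ a⁻¹ * x * a⁻¹⁻¹ = x⁻¹
        rcases ha with ha | ha
        · left; nth_rewrite 1 [← ha]; group
        · right
          nth_rewrite 2 [show x = a⁻¹ * (a * x * a⁻¹) * a by group]
          rw [ha]; group }
  refine ⟨C', ?_⟩
  have h1 : Nat.card C' = (Finset.univ.filter fun g : G => g * x * g⁻¹ = x ∨ g * x * g⁻¹ = x⁻¹).card := by
    rw [← Fintype.card_subtype, ← Nat.card_eq_fintype_card]
    rfl
  rw [h1, Finset.filter_or, Finset.card_union_of_disjoint, two_mul]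
  · congr 1
    · rw [← Fintype.card_subtype, ← Nat.card_eq_fintype_card]
      exact Nat.card_congr (Equiv.subtypeEquivRight fun g => by
        rw [mem_centralizer_singleton, mul_inv_eq_iff_eq_mul])
    · rw [← Fintype.card_subtype, ← Nat.card_eq_fintype_card]
      exact card_inverting_eq_centralizer hg₀
  · rw [Finset.disjoint_filter]
    intro g _ h h'
    apply hx
    rw [sq]
    nth_rewrite 1 [h.symm.trans h']
    exact inv_mul_cancel x

/-- The refined count when `h` bounds the orders of proper subgroups and `G` has no central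
involution and no subgroup of index 2. -/
theorem involution_bound_refined [Finite G] {h : ℕ}
    (hh : ∀ K : Subgroup G, K ≠ ⊤ → Nat.card K ≤ h)
    (hidx : ∀ K : Subgroup G, K.index ≠ 2)
    (hZ : ∀ t : G, orderOf t = 2 → t ∉ center G) :
    2 * (Nat.card {t : G // orderOf t = 2} * (Nat.card {t : G // orderOf t = 2} + 1)) + h ≤
      h * (Nat.card {t : G // orderOf t = 2} + Nat.card G) := by
  classical
  haveI := Fintype.ofFinite G
  set n := Nat.card {t : G // orderOf t = 2} with hn
  let c : G → ℕ := fun x =>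
    Nat.card {p : G × G // orderOf p.1 = 2 ∧ orderOf p.2 = 2 ∧ p.1 * p.2 = x}
  have hle := involution_sq_le (G := G) c (fun x _ => le_rfl)
  have hterm : ∀ x ∈ Finset.univ.erase (1 : G),
      2 * c x + (if orderOf x = 2 then 4 else 0) ≤ h + (if orderOf x = 2 then h else 0) := by
    intro x hx
    have hx1 := Finset.ne_of_mem_erase hx
    by_cases h2 : orderOf x = 2
    · simp only [h2, if_true]
      have h3 : c x + 2 ≤ Nat.card (centralizer ({x} : Set G)) := card_pairs_add_two_le h2
      have h4 : Nat.card (centralizer ({x} : Set G)) ≤ h := hh _ fun htop => hZ x h2 (by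
        rw [mem_center_iff]
        exact fun g => mem_centralizer_singleton.mp (htop ▸ mem_top g))
      omega
    · simp only [h2, if_false, add_zero]
      by_cases hreal : IsConj x x⁻¹
      · obtain ⟨g, hg⟩ := isConj_iff.mp hreal
        have hsq : x ^ 2 ≠ 1 := fun e => h2 (orderOf_eq_two_iff'.mpr ⟨by rwa [← sq], hx1⟩)
        obtain ⟨C', hC'⟩ := exists_extended_centralizer hg hsq
        have h3 : c x ≤ Nat.card (centralizer ({x} : Set G)) := card_pairs_le_centralizer x
        by_cases htop : C' = ⊤
        · exfalso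
          apply hidx (centralizer ({x} : Set G))
          have h4 := (centralizer ({x} : Set G)).card_mul_index
          rw [htop, card_top, ← h4, mul_comm 2] at hC'
          exact Nat.eq_of_mul_eq_mul_left Nat.card_pos hC'
        · have := hh C' htop
          omega
      · rw [show c x = 0 from eq_one_of_no_reality hreal]
        omega
  have hsum := Finset.sum_le_sum hterm
  have hI : ∀ k : ℕ, ∑ x ∈ Finset.univ.erase (1 : G), (if orderOf x = 2 then k else 0) = n * k := by
    intro k
    rw [Finset.sum_ite, Finset.sum_const_zero, add_zero, Finset.sum_const, smul_eq_mul]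
    congr 1
    rw [hn, Nat.card_eq_fintype_card, Fintype.card_subtype]
    congr 1
    ext t
    simp only [Finset.mem_filter, Finset.mem_erase, Finset.mem_univ, and_true, true_and,
      and_iff_right_iff_imp]
    exact ne_one_of_orderOf
  rw [Finset.sum_add_distrib, Finset.sum_add_distrib, hI, hI, ← Finset.mul_sum, Finset.sum_const,
    smul_eq_mul, Finset.card_erase_of_mem (Finset.mem_univ _), Finset.card_univ,
    ← Nat.card_eq_fintype_card] at hsum
  obtain ⟨k, hk⟩ : ∃ k, Nat.card G = k + 1 :=
    ⟨Nat.card G - 1, by have := Nat.card_pos (α := G); omega⟩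
  rw [hk, Nat.add_sub_cancel, mul_comm k h, mul_comm n h] at hsum
  rw [hk]; simp only [mul_add, mul_one]
  rw [← hn] at hle
  omega

/-- A conjugacy class of involutions is inside the set of involutions. -/
theorem card_class_le_involutions [Finite G] {t : G} (ht : orderOf t = 2) :
    Nat.card {y : G // IsConj t y} ≤ Nat.card {y : G // orderOf y = 2} :=
  Nat.card_le_card_of_injective
    (fun y => ⟨y.1, by
      obtain ⟨g, hg⟩ := isConj_iff.mp y.2
      rw [← hg, ← ht]
      exact orderOf_injective (MulAut.conj g).toMonoidHom (MulAut.conj g).injective t⟩)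
    (fun a b h => Subtype.ext (congrArg (fun z : {y : G // orderOf y = 2} => z.1) h))

/-- The order of a simple group is at most the factorial of the index of a proper subgroup. -/
theorem card_le_factorial_index [Finite G] [IsSimpleGroup G] (H : Subgroup G) (hH : H ≠ ⊤) :
    Nat.card G ≤ H.index.factorial := by
  have hinj : Function.Injective (MulAction.toPermHom G (G ⧸ H)) := by
    rw [← MonoidHom.ker_eq_bot_iff, ← normalCore_eq_ker]
    exact H.normalCore_normal.eq_bot_or_eq_top.resolve_right
      fun h => hH (top_le_iff.mp (h ▸ H.normalCore_le))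
  refine (Nat.card_le_card_of_injective _ hinj).trans ?_
  rw [index_eq_card, Nat.card_perm]

end Cfsg.Agent.Involution
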