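import Cfsg.Prelude.Def_Involutions
import Cfsg.Agent.Lib.Involution.Counting
import Cfsg.Agent.Lib.Involution.BaerSuzuki

/-!
# Strongly embedded subgroups: basic characterisations
-/

set_option autoImplicit false

namespace Cfsg.Agent.Involution

open Subgroup

variable {G : Type*} [Group G]

theorem exists_involution_of_even [Finite G] {H : Subgroup G} (h : Even (Nat.card H)) :
    ∃ t ∈ H, orderOf t = 2 := by
  haveI : Fact (Nat.Prime 2) := ⟨Nat.prime_two⟩
  obtain ⟨t, ht⟩ := exists_prime_orderOf_dvd_card' (G := H) 2 (even_iff_two_dvd.mp h)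
  exact ⟨t, t.2, by rw [Subgroup.orderOf_coe, ht]⟩

theorem even_card_of_involution {H : Subgroup G} {t : G} (ht : t ∈ H) (ho : orderOf t = 2) :
    Even (Nat.card H) :=
  even_iff_two_dvd.mpr (ho ▸ H.orderOf_dvd_natCard ht)

theorem orderOf_conj (g t : G) : orderOf (g * t * g⁻¹) = orderOf t :=
  orderOf_injective (MulAut.conj g).toMonoidHom (MulAut.conj g).injective t

/-- `H` is strongly embedded iff it is proper, of even order, and an element carrying an
involution of `H` into `H` lies in `H`. -/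
theorem stronglyEmbedded_iff [Finite G] {H : Subgroup G} :
    Cfsg.IsStronglyEmbedded H ↔ H ≠ ⊤ ∧ Even (Nat.card H) ∧
      ∀ g t : G, t ∈ H → orderOf t = 2 → g * t * g⁻¹ ∈ H → g ∈ H := by
  refine and_congr_right' (and_congr_right' ⟨fun h g t ht ho htg => ?_, fun h g hg => ?_⟩)
  · by_contra hg
    refine Nat.not_even_iff_odd.mpr (h g hg) ?_
    exact even_card_of_involution (mem_inf.mpr ⟨htg, ⟨t, ht, rfl⟩⟩) (by rw [orderOf_conj, ho])
  · rw [← Nat.not_even_iff_odd]
    intro heven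
    obtain ⟨s, hs, ho⟩ := exists_involution_of_even heven
    obtain ⟨hsH, ⟨t, ht, rfl⟩⟩ := mem_inf.mp hs
    exact hg (h g t ht ((orderOf_conj g t).symm.trans ho) hsH)

theorem stronglyEmbedded_iff_centralizers [Finite G] {H : Subgroup G} (hH : H ≠ ⊤)
    (heven : Even (Nat.card H)) :
    Cfsg.IsStronglyEmbedded H ↔
      ((∀ t ∈ H, orderOf t = 2 → centralizer ({t} : Set G) ≤ H) ∧
        (∀ t ∈ H, ∀ s ∈ H, orderOf t = 2 → orderOf s = 2 → IsConj t s →
          ∃ h ∈ H, h * t * h⁻¹ = s)) := by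
  rw [stronglyEmbedded_iff]
  constructor
  · rintro ⟨-, -, h⟩
    refine ⟨fun t ht ho g hg => ?_, fun t ht s hs hto hso hconj => ?_⟩
    · refine h g t ht ho ?_
      rw [mem_centralizer_singleton] at hg
      rwa [hg, mul_inv_cancel_right]
    · obtain ⟨g, rfl⟩ := isConj_iff.mp hconj
      exact ⟨g, h g t ht hto hs, rfl⟩
  · rintro ⟨h1, h2⟩
    refine ⟨hH, heven, fun g t ht ho htg => ?_⟩
    obtain ⟨k, hk, hkt⟩ := h2 t ht _ htg ho ((orderOf_conj g t).trans ho) (isConj_iff.mpr ⟨g, rfl⟩)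
    have hc : k⁻¹ * g ∈ centralizer ({t} : Set G) := by
      rw [mem_centralizer_singleton]
      calc k⁻¹ * g * t = k⁻¹ * (g * t * g⁻¹) * g := by group
        _ = k⁻¹ * (k * t * k⁻¹) * g := by rw [hkt]
        _ = t * (k⁻¹ * g) := by group
    simpa using mul_mem hk (h1 t ht ho hc)

theorem stronglyEmbedded_iff_fixed_cosets [Finite G] {H : Subgroup G} (hH : H ≠ ⊤)
    (heven : Even (Nat.card H)) :
    Cfsg.IsStronglyEmbedded H ↔
      ∀ t ∈ H, orderOf t = 2 → Nat.card {c : G ⧸ H // t • c = c} = 1 := by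
  rw [stronglyEmbedded_iff]
  have hfix : ∀ t g : G, t • (g : G ⧸ H) = (g : G ⧸ H) ↔ g⁻¹ * t * g ∈ H := by
    intro t g
    show ((t * g : G) : G ⧸ H) = (g : G ⧸ H) ↔ _
    rw [eq_comm, QuotientGroup.eq, mul_assoc]
  have hone : ∀ t ∈ H, t • ((1 : G) : G ⧸ H) = ((1 : G) : G ⧸ H) :=
    fun t ht => (hfix t 1).mpr (by simpa using ht)
  constructor
  · rintro ⟨-, -, h⟩ t ht ho
    rw [Nat.card_eq_one_iff_exists]
    refine ⟨⟨_, hone t ht⟩, ?_⟩
    rintro ⟨c, hc⟩
    induction c using QuotientGroup.induction_on with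
    | H g =>
      apply Subtype.ext
      show (g : G ⧸ H) = ((1 : G) : G ⧸ H)
      rw [QuotientGroup.eq, mul_one]
      exact h g⁻¹ t ht ho (by rw [inv_inv]; exact (hfix t g).mp hc)
  · intro h
    refine ⟨hH, heven, fun g t ht ho htg => ?_⟩
    obtain ⟨a, ha⟩ := Nat.card_eq_one_iff_exists.mp (h t ht ho)
    have h1 : t • ((g⁻¹ : G) : G ⧸ H) = ((g⁻¹ : G) : G ⧸ H) :=
      (hfix t g⁻¹).mpr (by rwa [inv_inv])
    have h2 := congrArg Subtype.val ((ha ⟨_, h1⟩).trans (ha ⟨_, hone t ht⟩).symm)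
    simp only [QuotientGroup.eq, inv_inv, mul_one] at h2
    exact h2

/-- **Strong embedding via normalisers of nontrivial 2-subgroups.** -/
theorem stronglyEmbedded_iff_normalizers [Finite G] {H : Subgroup G} (hH : H ≠ ⊤)
    (P : Sylow 2 ↥H) (hP : (P : Subgroup ↥H) ≠ ⊥) :
    Cfsg.IsStronglyEmbedded H ↔
      ∀ X : Subgroup ↥H, X ≤ (P : Subgroup ↥H) → X ≠ ⊥ →
        normalizer ((X.map H.subtype : Subgroup G) : Set G) ≤ H := by
  haveI : Fact (Nat.Prime 2) := ⟨Nat.prime_two⟩
  rw [stronglyEmbedded_iff]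
  constructor
  · rintro ⟨-, -, h⟩ X hX hXne g hg
    haveI : Nontrivial X := (Subgroup.nontrivial_iff_ne_bot X).mpr hXne
    have h2 : 2 ∣ Nat.card X := by
      rcases (P.isPGroup'.to_le hX).card_eq_or_dvd with h0 | h0
      · exact absurd h0 (Finite.one_lt_card (α := X)).ne'
      · exact h0
    obtain ⟨t, htX, ho⟩ := exists_involution_of_even (even_iff_two_dvd.mpr h2)
    have htX' : (t : G) ∈ X.map H.subtype := ⟨t, htX, rfl⟩
    obtain ⟨s, -, hs⟩ := (mem_normalizer_iff.mp hg _).mp htX'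
    refine h g t t.2 (by rwa [Subgroup.orderOf_coe]) ?_
    rw [← hs]
    exact s.2
  · intro h
    have heven : Even (Nat.card H) := by
      rcases P.isPGroup'.card_eq_or_dvd with h0 | h0
      · exact absurd (Subgroup.card_eq_one.mp h0) hP
      · exact even_iff_two_dvd.mpr (h0.trans (card_subgroup_dvd_card _))
    refine ⟨hH, heven, fun g t ht ho htg => ?_⟩
    -- every nontrivial 2-subgroup of `H` has its normaliser in `H`
    have hall : ∀ R : Subgroup G, R ≤ H → IsPGroup 2 R → R ≠ ⊥ → normalizer (R : Set G) ≤ H := by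
      intro R hRH hR hRne
      obtain ⟨S, hS⟩ := (hR.of_equiv (subgroupOfEquivOfLe hRH).symm).exists_le_sylow
      obtain ⟨c, hc⟩ := MulAction.exists_smul_eq H S P
      let X : Subgroup H := (R.subgroupOf H).map (MulAut.conj c).toMonoidHom
      have hXP : X ≤ (P : Subgroup H) := by
        rintro _ ⟨y, hy, rfl⟩
        show c * y * c⁻¹ ∈ P
        rw [← hc]
        exact conj_mem_sylow_smul c (hS hy)
      have hXne : X ≠ ⊥ := by
        rw [Ne, Subgroup.map_eq_bot_iff_of_injective _ (MulAut.conj c).injective, subgroupOf_eq_bot,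
          disjoint_iff, inf_eq_left.mpr hRH]
        exact hRne
      have hmap : X.map H.subtype = R.map (MulAut.conj (c : G)).toMonoidHom := by
        ext y
        constructor
        · rintro ⟨_, ⟨r, hr, rfl⟩, rfl⟩
          exact ⟨r, hr, rfl⟩
        · rintro ⟨r, hr, rfl⟩
          exact ⟨_, ⟨⟨r, hRH hr⟩, hr, rfl⟩, rfl⟩
      intro x hx
      have hcx : (c : G) * x * (c : G)⁻¹ ∈ normalizer ((X.map H.subtype : Subgroup G) : Set G) := by
        rw [hmap, mem_normalizer_iff]
        intro y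
        have hx' := mem_normalizer_iff.mp hx ((c : G)⁻¹ * y * c)
        simp only [Subgroup.mem_map_equiv, MulAut.conj_symm_apply]
        rw [hx', show (c : G)⁻¹ * ((c : G) * x * (c : G)⁻¹ * y * ((c : G) * x * (c : G)⁻¹)⁻¹) * c =
          x * ((c : G)⁻¹ * y * c) * x⁻¹ by group]
      have := mul_mem (mul_mem (inv_mem c.2) (h X hXP hXne hcx)) c.2
      simpa [mul_assoc] using this
    -- a Sylow 2-subgroup of `K = H ∩ g H g⁻¹`
    let K : Subgroup G := H ⊓ H.map (MulAut.conj g).toMonoidHom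
    have hsK : g * t * g⁻¹ ∈ K := ⟨htg, ⟨t, ht, rfl⟩⟩
    obtain ⟨S⟩ : Nonempty (Sylow 2 K) := inferInstance
    set S' : Subgroup G := (S : Subgroup K).map K.subtype with hS'def
    have hS'p : IsPGroup 2 S' := S.isPGroup'.map K.subtype
    have hS'K : S' ≤ K := map_subtype_le _
    have hS'ne : S' ≠ ⊥ := by
      rw [hS'def, Ne, Subgroup.map_eq_bot_iff_of_injective _ (subtype_injective _)]
      exact S.ne_bot_of_dvd_card
        (even_iff_two_dvd.mp (even_card_of_involution hsK (by rw [orderOf_conj, ho])))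
    set S'' : Subgroup G := S'.map (MulAut.conj g⁻¹).toMonoidHom with hS''def
    have hmemS'' : ∀ y, y ∈ S'' ↔ g * y * g⁻¹ ∈ S' := by
      intro y
      rw [hS''def, Subgroup.mem_map_equiv]
      simp [MulAut.conj_symm_apply]
    have hS''H : S'' ≤ H := by
      intro y hy
      obtain ⟨w, hw, hwe⟩ := (hS'K ((hmemS'' y).mp hy)).2
      rwa [(MulAut.conj g).injective (show MulAut.conj g w = MulAut.conj g y from hwe)] at hw
    have hS''p : IsPGroup 2 S'' := hS'p.map _
    have hS''ne : S'' ≠ ⊥ := by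
      rw [hS''def, Ne, Subgroup.map_eq_bot_iff_of_injective _ (MulAut.conj g⁻¹).injective]
      exact hS'ne
    have hN : normalizer (S' : Set G) ≤ K := by
      intro x hx
      refine ⟨hall S' (hS'K.trans inf_le_left) hS'p hS'ne hx, ?_⟩
      have hx2 : g⁻¹ * x * g ∈ normalizer (S'' : Set G) := by
        rw [mem_normalizer_iff]
        intro y
        rw [hmemS'', hmemS'', mem_normalizer_iff.mp hx (g * y * g⁻¹),
          show x * (g * y * g⁻¹) * x⁻¹ = g * (g⁻¹ * x * g * y * (g⁻¹ * x * g)⁻¹) * g⁻¹ by group]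
      exact ⟨g⁻¹ * x * g, hall S'' hS''H hS''p hS''ne hx2, by simp [mul_assoc]⟩
    obtain ⟨Q, hQ⟩ :=
      (hS'p.of_equiv (subgroupOfEquivOfLe (hS'K.trans inf_le_left)).symm).exists_le_sylow
    have hQeq : (Q : Subgroup H).map H.subtype = S' := by
      set Q' : Subgroup G := (Q : Subgroup H).map H.subtype with hQ'def
      have hQ'p : IsPGroup 2 Q' := Q.isPGroup'.map _
      have hle : S' ≤ Q' := fun y hy =>
        ⟨⟨y, (hS'K.trans inf_le_left) hy⟩, hQ hy, rfl⟩
      by_contra hne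
      haveI : Group.IsNilpotent Q' := hQ'p.isNilpotent
      have hlt : S'.subgroupOf Q' < normalizer ((S'.subgroupOf Q' : Subgroup Q') : Set Q') :=
        Group.normalizerCondition_of_isNilpotent _ (lt_top_iff_ne_top.mpr fun htop =>
          hne (le_antisymm (subgroupOf_eq_top.mp htop) hle))
      obtain ⟨y, hy, hyS⟩ := SetLike.exists_of_lt hlt
      apply hyS
      have hyN : (y : G) ∈ normalizer (S' : Set G) := by
        rw [mem_normalizer_iff]
        intro w
        have key : ∀ v : Q', v ∈ normalizer ((S'.subgroupOf Q' : Subgroup Q') : Set Q') →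
            ∀ u : G, u ∈ S' → (v : G) * u * (v : G)⁻¹ ∈ S' := fun v hv u hu =>
          (mem_normalizer_iff.mp hv ⟨u, hle hu⟩).mp hu
        refine ⟨key y hy w, fun hw => ?_⟩
        have := key y⁻¹ (inv_mem hy) _ hw
        simpa [mul_assoc] using this
      -- the 2-group generated by `y` and `S'` lies in `K`, so `y ∈ S'`
      have hTK : (zpowers (y : G) ⊔ S') ≤ K :=
        sup_le ((zpowers_le).mpr (hN hyN)) hS'K
      have hTp : IsPGroup 2 (zpowers (y : G) ⊔ S' : Subgroup G) :=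
        hQ'p.to_le (sup_le ((zpowers_le).mpr y.2) hle)
      have hTS : (zpowers (y : G) ⊔ S').subgroupOf K = (S : Subgroup K) :=
        S.is_maximal' (hTp.of_equiv (subgroupOfEquivOfLe hTK).symm) fun k hk =>
          show (k : G) ∈ zpowers (y : G) ⊔ S' from mem_sup_right ⟨k, hk, rfl⟩
      exact ⟨⟨y, hN hyN⟩, hTS ▸ (mem_sup_left (mem_zpowers _) : (y : G) ∈ zpowers (y : G) ⊔ S'), rfl⟩
    -- `S''` is contained in a Sylow subgroup of `H`, of the same order as `S'`
    obtain ⟨Q₂, hQ₂⟩ := (hS''p.of_equiv (subgroupOfEquivOfLe hS''H).symm).exists_le_sylow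
    have hQ₂eq : S''.subgroupOf H = (Q₂ : Subgroup H) := by
      refine eq_of_le_of_card_ge hQ₂ (le_of_eq ?_)
      rw [Nat.card_congr (subgroupOfEquivOfLe hS''H).toEquiv, hS''def,
        card_map_of_injective (MulAut.conj g⁻¹).injective, ← hQeq,
        card_map_of_injective (subtype_injective H), Nat.card_congr (Q₂.equiv Q).toEquiv]
    obtain ⟨c, hc⟩ := MulAction.exists_smul_eq H Q₂ Q
    have hmem : ∀ y, y ∈ S'' → (c : G) * y * (c : G)⁻¹ ∈ S' := by
      intro y hy
      have h1 : (⟨y, hS''H hy⟩ : H) ∈ Q₂ := by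
        show _ ∈ (Q₂ : Subgroup H)
        rw [← hQ₂eq]; exact hy
      have h2 := conj_mem_sylow_smul c h1
      rw [hc] at h2
      rw [← hQeq]
      exact ⟨_, h2, rfl⟩
    have hnorm : (c : G) * g⁻¹ ∈ normalizer (S' : Set G) := by
      have h1 : ∀ a ∈ (S' : Set G), (c : G) * g⁻¹ * a * ((c : G) * g⁻¹)⁻¹ ∈ (S' : Set G) := by
        intro a ha
        have := hmem (g⁻¹ * a * g) ((hmemS'' _).mpr (by simpa [mul_assoc] using ha))
        simpa [mul_assoc] using this
      have h2 := mem_normalizer_closure_of_conj h1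
      rwa [closure_eq] at h2
    have := hall S' (hS'K.trans inf_le_left) hS'p hS'ne hnorm
    have h3 := mul_mem (inv_mem this) c.2
    simpa [mul_assoc] using h3

end Cfsg.Agent.Involution
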