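import Cfsg.Agent.Lib.Involution.Dihedral
import Cfsg.Agent.Lib.Involution.BaerSuzuki
import Mathlib.GroupTheory.SpecificGroups.KleinFour
import Mathlib.GroupTheory.Transfer
import Mathlib.Algebra.Group.Conj

/-!
# Fusion of involutions when a Sylow 2-subgroup is a four-group
-/

set_option autoImplicit false

namespace Cfsg.Agent.Involution

open Subgroup

variable {G : Type*} [Group G] [Finite G]

theorem klein_sq {P : Subgroup G} (hP : IsKleinFour P) {a : G} (ha : a ∈ P) : a * a = 1 :=
  congrArg Subtype.val (IsKleinFour.mul_self (⟨a, ha⟩ : P))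

/-- Every involution is conjugate into a given Sylow 2-subgroup. -/
theorem exists_isConj_mem_sylow (P : Sylow 2 G) {t : G} (ht : orderOf t = 2) :
    ∃ a ∈ P, IsConj t a ∧ orderOf a = 2 := by
  haveI : Fact (Nat.Prime 2) := ⟨Nat.prime_two⟩
  obtain ⟨Q, hQ⟩ :=
    (IsPGroup.of_card (p := 2) (G := zpowers t) (n := 1) (by rw [Nat.card_zpowers, ht]; rfl)).exists_le_sylow
  obtain ⟨c, hc⟩ := MulAction.exists_smul_eq G Q P
  exact ⟨c * t * c⁻¹, hc ▸ conj_mem_sylow_smul c (hQ (mem_zpowers t)), isConj_iff.mpr ⟨c, rfl⟩,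
    (orderOf_injective (MulAut.conj c).toMonoidHom (MulAut.conj c).injective t).trans ht⟩

/-- With an abelian Sylow 2-subgroup that is a four-group: either it is centralised by its
normaliser, or all involutions are conjugate. -/
theorem klein_sylow_dichotomy (P : Sylow 2 G) (hP : IsKleinFour (P : Subgroup G)) :
    normalizer ((P : Subgroup G) : Set G) ≤ centralizer ((P : Subgroup G) : Set G) ∨
      ∀ s t : G, orderOf s = 2 → orderOf t = 2 → IsConj s t := by
  classical
  haveI : Fact (Nat.Prime 2) := ⟨Nat.prime_two⟩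
  by_cases hc : normalizer ((P : Subgroup G) : Set G) ≤ centralizer ((P : Subgroup G) : Set G)
  · exact Or.inl hc
  right
  have hcent : ∀ a ∈ (P : Subgroup G), ∀ b ∈ (P : Subgroup G), a * b = b * a := by
    intro a ha b hb
    have h := klein_sq hP (mul_mem ha hb)
    calc a * b = (a * b)⁻¹ := eq_inv_of_mul_eq_one_right h
      _ = b * a := by
        rw [mul_inv_rev, inv_eq_of_mul_eq_one_right (klein_sq hP hb),
          inv_eq_of_mul_eq_one_right (klein_sq hP ha)]
  obtain ⟨n, hn, hnc⟩ := SetLike.not_le_iff_exists.mp hc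
  -- a normalising element of odd order moves some involution `a` of `P`
  obtain ⟨k, m, hm, hord⟩ := Nat.exists_eq_two_pow_mul_odd (orderOf_pos n).ne'
  have hnm : n ^ m ∈ (P : Subgroup G) := by
    have hle : zpowers (n ^ m) ≤ normalizer ((P : Subgroup G) : Set G) :=
      zpowers_le.mpr (pow_mem hn m)
    have hp : IsPGroup 2 (zpowers (n ^ m)) := IsPGroup.of_card (n := k) (by
      rw [Nat.card_zpowers, orderOf_pow' _ hm.pos.ne', hord, Nat.gcd_eq_right (Dvd.intro_left _ rfl),
        Nat.mul_div_cancel _ hm.pos])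
    exact P.is_maximal' (hp.to_sup_of_normal_right' P.isPGroup' hle) le_sup_right ▸
      mem_sup_left (mem_zpowers _)
  obtain ⟨a, ha, hna⟩ : ∃ a ∈ (P : Subgroup G), n * a ≠ a * n := by
    by_contra hcon
    push Not at hcon
    exact hnc (mem_centralizer_iff.mpr fun a ha => (hcon a ha).symm)
  have hmap : ∀ x ∈ (P : Subgroup G), n * x * n⁻¹ ∈ (P : Subgroup G) := fun x hx =>
    (mem_normalizer_iff.mp hn x).mp hx
  have ha1 : a ≠ 1 := by rintro rfl; simp at hna
  set b := n * a * n⁻¹ with hbdef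
  have hb : b ∈ (P : Subgroup G) := hmap a ha
  have hab : a ≠ b := fun h => hna (by
    rw [← mul_inv_eq_iff_eq_mul]; exact h.symm)
  have hb1 : b ≠ 1 := fun h => ha1 (by simpa [hbdef] using h)
  -- `n` does not swap `a` and `b`
  have hswap : n * b * n⁻¹ ≠ a := by
    intro h
    have h2 : Commute (n ^ 2) a := by
      refine mul_inv_eq_iff_eq_mul.mp ?_
      calc n ^ 2 * a * (n ^ 2)⁻¹ = n * (n * a * n⁻¹) * n⁻¹ := by rw [pow_two]; group
        _ = a := h
    obtain ⟨j, hj⟩ := hm
    have h3 : n ^ m * a * (n ^ m)⁻¹ = b := by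
      rw [hj, pow_succ', pow_mul]
      calc n * (n ^ 2) ^ j * a * (n * (n ^ 2) ^ j)⁻¹
          = n * ((n ^ 2) ^ j * a * ((n ^ 2) ^ j)⁻¹) * n⁻¹ := by group
        _ = b := by rw [(h2.pow_left j).eq, mul_inv_cancel_right]
    rw [hcent _ hnm a ha, mul_inv_cancel_right] at h3
    exact hab h3
  have hthree : ∀ x ∈ (P : Subgroup G), x ≠ 1 → x = a ∨ x = b ∨ x = a * b := by
    intro x hx hx1
    by_contra hcon
    push Not at hcon
    have := IsKleinFour.eq_mul_of_ne_all (G := (P : Subgroup G)) (x := ⟨a, ha⟩) (y := ⟨b, hb⟩)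
      (z := ⟨x, hx⟩) (fun h => ha1 (congrArg Subtype.val h)) (fun h => hb1 (congrArg Subtype.val h))
      (fun h => hab (congrArg Subtype.val h)) (fun h => hx1 (congrArg Subtype.val h))
      (fun h => hcon.1 (congrArg Subtype.val h)) (fun h => hcon.2.1 (congrArg Subtype.val h))
    exact hcon.2.2 (congrArg Subtype.val this)
  have hbb : n * b * n⁻¹ = a * b := by
    rcases hthree _ (hmap b hb) (fun h => hb1 (by simpa using h)) with h | h | h
    · exact absurd h hswap
    · exfalso
      exact hab ((MulAut.conj n).injective (show MulAut.conj n a = MulAut.conj n b from h.symm))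
    · exact h
  have hallconj : ∀ x ∈ (P : Subgroup G), x ≠ 1 → IsConj a x := by
    intro x hx hx1
    rcases hthree x hx hx1 with rfl | rfl | rfl
    · exact IsConj.refl _
    · exact isConj_iff.mpr ⟨n, rfl⟩
    · exact (isConj_iff.mpr ⟨n, rfl⟩ : IsConj a b).trans (isConj_iff.mpr ⟨n, hbb⟩)
  intro s t hs ht
  obtain ⟨s', hs', hcs, hso⟩ := exists_isConj_mem_sylow P hs
  obtain ⟨t', ht', hct, hto⟩ := exists_isConj_mem_sylow P ht
  exact hcs.trans (((hallconj s' hs' (ne_one_of_orderOf hso)).symm.trans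
    (hallconj t' ht' (ne_one_of_orderOf hto))).trans hct.symm)

/-- If the four-group is central in its normaliser, fusion is trivial and there are three
classes of involutions. -/
theorem klein_sylow_three (P : Sylow 2 G) (hP : IsKleinFour (P : Subgroup G))
    (hfus : ∀ a ∈ (P : Subgroup G), ∀ b ∈ (P : Subgroup G), IsConj a b → a = b) :
    Nat.card {C : ConjClasses G // ∃ t : G, orderOf t = 2 ∧ ConjClasses.mk t = C} = 3 := by
  classical
  haveI := Fintype.ofFinite (P : Subgroup G)
  let f : {a : (P : Subgroup G) // a ≠ 1} →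
      {C : ConjClasses G // ∃ t : G, orderOf t = 2 ∧ ConjClasses.mk t = C} :=
    fun a => ⟨ConjClasses.mk ((a.1 : G)), (a.1 : G),
      orderOf_eq_two_iff'.mpr ⟨klein_sq hP a.1.2, fun h => a.2 (Subtype.ext h)⟩, rfl⟩
  have hbij : Function.Bijective f := by
    constructor
    · intro x y h
      exact Subtype.ext (Subtype.ext (hfus _ x.1.2 _ y.1.2
        (ConjClasses.mk_eq_mk_iff_isConj.mp (congrArg Subtype.val h))))
    · rintro ⟨_, t, ht, rfl⟩
      obtain ⟨a, ha, hc, hao⟩ := exists_isConj_mem_sylow P ht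
      exact ⟨⟨⟨a, ha⟩, fun h => ne_one_of_orderOf hao (congrArg Subtype.val h)⟩,
        Subtype.ext (ConjClasses.mk_eq_mk_iff_isConj.mpr hc.symm)⟩
  rw [← Nat.card_eq_of_bijective f hbij, Nat.card_eq_fintype_card, Fintype.card_subtype_compl,
    ← Nat.card_eq_fintype_card, IsKleinFour.card_four, Fintype.card_subtype_eq]

omit [Finite G] in
theorem fusion_trivial_of_complement {P N : Subgroup G} (hN : N.Normal)
    (hc : IsComplement' N P) (hab : ∀ a ∈ P, ∀ b ∈ P, a * b = b * a) :
    ∀ a ∈ P, ∀ b ∈ P, IsConj a b → a = b := by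
  intro a ha b hb hconj
  obtain ⟨g, rfl⟩ := isConj_iff.mp hconj
  obtain ⟨⟨n, y⟩, rfl⟩ := hc.2 g
  set x : G := (n : G) * (y : G) * a * ((n : G) * (y : G))⁻¹ with hx
  have h1 : x = (n : G) * a * (n : G)⁻¹ := by
    rw [hx, show (n : G) * (y : G) * a * ((n : G) * (y : G))⁻¹ =
      (n : G) * ((y : G) * a * (y : G)⁻¹) * (n : G)⁻¹ by group, hab y y.2 a ha, mul_inv_cancel_right]
  have h2 : x * a⁻¹ ∈ N := by
    rw [h1, show (n : G) * a * (n : G)⁻¹ * a⁻¹ = (n : G) * (a * (n : G)⁻¹ * a⁻¹) by group]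
    exact mul_mem n.2 (hN.conj_mem _ (inv_mem n.2) a)
  exact (mul_inv_eq_one.mp
    (disjoint_def.mp hc.disjoint h2 (mul_mem hb (inv_mem ha)))).symm

end Cfsg.Agent.Involution
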