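import Cfsg.Agent.Lib.Involution.Dihedral
import Mathlib.GroupTheory.PGroup
import Mathlib.GroupTheory.Nilpotent
import Mathlib.Data.Set.Finite.Lemmas
import Mathlib.Data.SetLike.Fintype
import Mathlib.RingTheory.Coprime.Lemmas
import Mathlib.RingTheory.Int.Basic
import Mathlib.Tactic.LinearCombination
import Mathlib.Tactic.IntervalCases

/-!
# A 2-group of 2-rank at least 3 has a normal four-subgroup
-/

set_option autoImplicit false

namespace Cfsg.Agent.Involution

open Subgroup

variable {T : Type*} [Group T]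

/-- A nontrivial normal subgroup of a finite `p`-group meets the centre. -/
theorem exists_central_mem_normal [Finite T] {p : ℕ} [Fact p.Prime] (hT : IsPGroup p T)
    (N : Subgroup T) [N.Normal] (hN : N ≠ ⊥) : ∃ z ∈ N, z ∈ center T ∧ orderOf z = p := by
  have hp : p ∣ Nat.card N := by
    rcases (hT.to_subgroup N).card_eq_or_dvd with h | h
    · exact absurd (Subgroup.card_eq_one.mp h) hN
    · exact h
  let β := ConjAct T
  have hβ : IsPGroup p β := hT.of_equiv ConjAct.toConjAct
  obtain ⟨y, hy, hy1⟩ := hβ.exists_fixed_point_of_prime_dvd_card_of_fixed_point N hp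
    (a := (1 : N)) (fun g => by simp)
  have hyc : (y : T) ∈ center T := by
    rw [mem_center_iff]
    intro g
    have h := congrArg Subtype.val (hy (ConjAct.toConjAct g))
    rw [ConjAct.Subgroup.val_conj_smul, ConjAct.toConjAct_smul] at h
    exact mul_inv_eq_iff_eq_mul.mp h
  obtain ⟨k, hk⟩ := IsPGroup.iff_orderOf.mp hT (y : T)
  cases k with
  | zero =>
    rw [pow_zero, orderOf_eq_one_iff] at hk
    exact absurd (Subtype.ext hk.symm) hy1
  | succ j =>
    refine ⟨(y : T) ^ p ^ j, pow_mem y.2 _, pow_mem hyc _, ?_⟩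
    rw [orderOf_pow' _ (pow_ne_zero _ (Fact.out : p.Prime).ne_zero), hk,
      Nat.gcd_eq_right (pow_dvd_pow p (Nat.le_succ j)), pow_succ,
      Nat.mul_div_cancel_left _ (pow_pos (Fact.out : p.Prime).pos _)]

/-- `{1, z, e, z e}` is a normal four group if every conjugate of `e` is `e` or `z e`, for a
central involution `z`. -/
theorem exists_four_of_conj [Finite T] {z e : T} (hz : orderOf z = 2) (he : orderOf e = 2)
    (hzc : z ∈ center T) (hne : e ≠ z) (hconj : ∀ g : T, g * e * g⁻¹ = e ∨ g * e * g⁻¹ = z * e) :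
    ∃ U : Subgroup T, U.Normal ∧ Nat.card U = 4 ∧ ∀ u ∈ U, u * u = 1 := by
  classical
  haveI : Fact (Nat.Prime 2) := ⟨Nat.prime_two⟩
  have hz' := mul_self_of_orderOf hz
  have he' := mul_self_of_orderOf he
  have hcomm : ∀ g, g * z = z * g := mem_center_iff.mp hzc
  let U : Subgroup T :=
    { carrier := {x | x = 1 ∨ x = z ∨ x = e ∨ x = z * e}
      one_mem' := Or.inl rfl
      inv_mem' := by
        rintro x (rfl | rfl | rfl | rfl) <;>
          simp [inv_of_orderOf hz, inv_of_orderOf he, hcomm]
      mul_mem' := by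
        rintro a b (ha | ha | ha | ha) (hb | hb | hb | hb)
        all_goals simp only [ha, hb]
        all_goals first
          | (left; simp only [one_mul, mul_one, hz', he']; done)
          | (right; left; simp only [one_mul, mul_one]; done)
          | (right; right; left; simp only [one_mul, mul_one]; done)
          | (right; right; right; simp only [one_mul, mul_one]; done)
          | (right; right; left; simp only [← mul_assoc, hz', one_mul]; done)
          | (right; left; simp only [mul_assoc, he', mul_one]; done)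
          | (right; right; right; exact hcomm e)
          | (right; right; left; rw [mul_assoc, hcomm e, ← mul_assoc, hz', one_mul])
          | (right; left; rw [← mul_assoc, hcomm e, mul_assoc, he', mul_one])
          | (left; rw [mul_assoc, ← mul_assoc e, hcomm e, mul_assoc z e e, he', mul_one, hz']) }
  have hmem : ∀ {x}, x ∈ U ↔ x = 1 ∨ x = z ∨ x = e ∨ x = z * e := Iff.rfl
  refine ⟨U, ⟨fun x hx g => ?_⟩, ?_, ?_⟩
  · rw [hmem] at hx ⊢
    rcases hx with rfl | rfl | rfl | rfl
    · left; simp
    · right; left; rw [hcomm g, mul_inv_cancel_right]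
    · rcases hconj g with h | h
      · exact Or.inr (Or.inr (Or.inl h))
      · exact Or.inr (Or.inr (Or.inr h))
    · rw [show g * (z * e) * g⁻¹ = z * (g * e * g⁻¹) by
        rw [← mul_assoc g z, hcomm g]; group]
      rcases hconj g with h | h
      · right; right; right; rw [h]
      · right; right; left; rw [h, ← mul_assoc, hz', one_mul]
  · rw [Nat.card_congr (Equiv.subtypeEquivRight (q := fun x => x ∈ ({1, z, e, z * e} : Finset T))
      fun x => by simp [hmem]), Nat.card_eq_finsetCard]
    have h1 := ne_one_of_orderOf hz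
    have h2 := ne_one_of_orderOf he
    rw [Finset.card_insert_of_notMem, Finset.card_insert_of_notMem, Finset.card_insert_of_notMem,
      Finset.card_singleton]
    · simp only [Finset.mem_singleton]
      exact fun h => h1 (by simpa using h.symm)
    · simp only [Finset.mem_insert, Finset.mem_singleton]
      rintro (h | h)
      · exact hne h.symm
      · exact h2 (by simpa using h.symm)
    · simp only [Finset.mem_insert, Finset.mem_singleton]
      rintro (h | h | h)
      · exact h1 h.symm
      · exact h2 h.symm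
      · exact hne (by rw [eq_inv_of_mul_eq_one_right h.symm, inv_of_orderOf hz])
  · intro x hx
    rcases hmem.mp hx with rfl | rfl | rfl | rfl
    · exact one_mul 1
    · exact hz'
    · exact he'
    · rw [mul_assoc, ← mul_assoc e, hcomm e, mul_assoc z e e, he', mul_one, hz']

/-- The square roots of one modulo a power of two. -/
theorem sq_eq_one_mod_two_pow {n : ℕ} {k : ℤ} (h : ((2 : ℤ) ^ (n + 2)) ∣ k * k - 1) :
    (2 : ℤ) ^ (n + 1) ∣ k - 1 ∨ (2 : ℤ) ^ (n + 1) ∣ k + 1 := by
  rcases Int.even_or_odd k with ⟨j, rfl⟩ | ⟨j, rfl⟩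
  · exfalso
    obtain ⟨c, hc⟩ := h
    rw [pow_succ] at hc
    have : (1 : ℤ) = 2 * (2 * j * j - 2 ^ (n + 1) * c) := by linear_combination (-1 : ℤ) * hc
    omega
  · have h4 : (2 : ℤ) ^ n ∣ j * (j + 1) := by
      obtain ⟨c, hc⟩ := h
      refine ⟨c, ?_⟩
      have : (4 : ℤ) * (j * (j + 1)) = 4 * (2 ^ n * c) := by
        rw [pow_succ, pow_succ] at hc; linear_combination hc
      exact mul_left_cancel₀ (by norm_num) this
    rcases Int.even_or_odd j with hj | hj
    · left
      have hcop : IsCoprime ((2 : ℤ) ^ n) (j + 1) := IsCoprime.pow_left <|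
        Int.isCoprime_iff_gcd_eq_one.mpr (by
          obtain ⟨i, rfl⟩ := hj
          refine Nat.dvd_one.mp ?_
          have h1 : (Int.gcd 2 (i + i + 1) : ℤ) ∣ (i + i + 1) - 2 * i :=
            dvd_sub (Int.gcd_dvd_right _ _) ((Int.gcd_dvd_left _ _).mul_right _)
          rw [show i + i + 1 - 2 * i = 1 by ring] at h1
          exact_mod_cast h1)
      obtain ⟨c, hc⟩ := hcop.dvd_of_dvd_mul_right h4
      exact ⟨c, by rw [hc, pow_succ]; ring⟩
    · right
      have hcop : IsCoprime ((2 : ℤ) ^ n) j := IsCoprime.pow_left <|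
        Int.isCoprime_iff_gcd_eq_one.mpr (by
          obtain ⟨i, rfl⟩ := hj
          refine Nat.dvd_one.mp ?_
          have h1 : (Int.gcd 2 (2 * i + 1) : ℤ) ∣ (2 * i + 1) - 2 * i :=
            dvd_sub (Int.gcd_dvd_right _ _) ((Int.gcd_dvd_left _ _).mul_right _)
          rw [show 2 * i + 1 - 2 * i = 1 by ring] at h1
          exact_mod_cast h1)
      obtain ⟨c, hc⟩ := hcop.dvd_of_dvd_mul_left h4
      exact ⟨c, by rw [show 2 * j + 1 + 1 = 2 * (j + 1) by ring, hc, pow_succ]; ring⟩

/-- **A 2-group containing an elementary abelian subgroup of order 8 has a normal four-subgroup.** -/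
theorem exists_normal_four [Finite T] (hT : IsPGroup 2 T) {E : Subgroup T}
    (hE : 8 ≤ Nat.card E) (hEexp : ∀ e ∈ E, e * e = 1) :
    ∃ U : Subgroup T, U.Normal ∧ Nat.card U = 4 ∧ ∀ u ∈ U, u * u = 1 := by
  classical
  haveI : Fact (Nat.Prime 2) := ⟨Nat.prime_two⟩
  obtain ⟨A, hA, hmax⟩ := Set.exists_max_image
    {A : Subgroup T | A.Normal ∧ ∀ a ∈ A, ∀ b ∈ A, a * b = b * a}
    (fun A : Subgroup T => Nat.card A) (Set.toFinite _)
    ⟨⊥, inferInstance, fun a ha b hb => by simp [mem_bot.mp ha, mem_bot.mp hb]⟩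
  obtain ⟨hAn, hAc⟩ := hA
  haveI := hAn
  -- `A` is its own centraliser
  have hself : ∀ c : T, (∀ a ∈ A, c * a = a * c) → c ∈ A := by
    intro c hc
    by_contra hcA
    let C := centralizer (A : Set T)
    haveI : C.Normal := normal_centralizer
    have hne : C.map (QuotientGroup.mk' A) ≠ ⊥ := by
      intro h
      apply hcA
      have h1 : (c : T ⧸ A) ∈ C.map (QuotientGroup.mk' A) :=
        ⟨c, mem_centralizer_iff.mpr fun a ha => (hc a ha).symm, rfl⟩
      rwa [h, mem_bot, QuotientGroup.eq_one_iff] at h1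
    haveI : (C.map (QuotientGroup.mk' A)).Normal :=
      Subgroup.Normal.map inferInstance _ (QuotientGroup.mk'_surjective A)
    obtain ⟨z, ⟨d, hd, rfl⟩, hzc, hzo⟩ :=
      exists_central_mem_normal (hT.to_quotient A) (C.map (QuotientGroup.mk' A)) hne
    have hdA : d ∉ A := fun h => by
      rw [show QuotientGroup.mk' A d = 1 from (QuotientGroup.eq_one_iff d).mpr h] at hzo
      simp at hzo
    let B := A ⊔ zpowers d
    haveI : B.Normal := ⟨fun b hb g => by
      have hle : B ≤ B.comap (MulAut.conj g).toMonoidHom := by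
        refine sup_le (fun a ha => mem_sup_left (hAn.conj_mem a ha g)) ?_
        rw [zpowers_le]
        have h1 : ((g * d * g⁻¹ : T) : T ⧸ A) = (d : T ⧸ A) := by
          simp only [QuotientGroup.mk_mul, QuotientGroup.mk_inv]
          exact mul_inv_eq_iff_eq_mul.mpr (mem_center_iff.mp hzc g)
        rw [eq_comm, QuotientGroup.eq] at h1
        show g * d * g⁻¹ ∈ B
        rw [show g * d * g⁻¹ = d * (d⁻¹ * (g * d * g⁻¹)) by group]
        exact mul_mem (mem_sup_right (mem_zpowers d)) (mem_sup_left h1)
      exact hle hb⟩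
    have hBc : ∀ a ∈ B, ∀ b ∈ B, a * b = b * a := by
      intro a ha b hb
      rw [mem_sup_of_normal_left] at ha hb
      obtain ⟨a1, ha1, y1, ⟨i, rfl⟩, rfl⟩ := ha
      obtain ⟨a2, ha2, y2, ⟨j, rfl⟩, rfl⟩ := hb
      have hcd : ∀ u ∈ A, Commute d u := fun u hu => (mem_centralizer_iff.mp hd u hu).symm
      exact (((show Commute a1 a2 from hAc a1 ha1 a2 ha2).mul_right ((hcd a1 ha1).zpow_left j).symm).mul_left
        (((hcd a2 ha2).zpow_left i).mul_right ((Commute.refl d).zpow_zpow i j))).eq
    exact hdA (eq_of_le_of_card_ge (le_sup_left : A ≤ B) (hmax B ⟨inferInstance, hBc⟩) ▸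
      mem_sup_right (mem_zpowers d))
  by_cases hfour : ∃ a ∈ A, ∃ b ∈ A, orderOf a = 2 ∧ orderOf b = 2 ∧ a ≠ b
  · -- `A` has two involutions
    obtain ⟨a, ha, b, hb, hao, hbo, hab⟩ := hfour
    obtain ⟨z, hzA, hzc, hzo⟩ := exists_central_mem_normal hT A (fun h =>
      ne_one_of_orderOf hao (by rwa [h, mem_bot] at ha))
    let Ω : Subgroup T :=
      { carrier := {x | x ∈ A ∧ x * x = 1}
        one_mem' := ⟨one_mem A, one_mul 1⟩
        inv_mem' := fun {x} hx => ⟨inv_mem hx.1, by rw [← mul_inv_rev, hx.2, inv_one]⟩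
        mul_mem' := fun {x y} hx hy => ⟨mul_mem hx.1 hy.1, by
          calc x * y * (x * y) = x * (y * x) * y := by group
            _ = (x * x) * (y * y) := by rw [hAc y hy.1 x hx.1]; group
            _ = 1 := by rw [hx.2, hy.2, one_mul]⟩ }
    haveI : Ω.Normal := ⟨fun x hx g => ⟨hAn.conj_mem x hx.1 g, by
      calc g * x * g⁻¹ * (g * x * g⁻¹) = g * (x * x) * g⁻¹ := by group
        _ = 1 := by rw [hx.2]; group⟩⟩
    haveI hZ : (zpowers z).Normal := ⟨fun x hx g => by
      obtain ⟨i, rfl⟩ := hx
      rw [mem_center_iff.mp (zpow_mem hzc i) g, mul_inv_cancel_right]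
      exact ⟨i, rfl⟩⟩
    have hzmem : ∀ x : T, x ∈ zpowers z → x = 1 ∨ x = z := by
      rintro x ⟨i, rfl⟩
      rcases Int.even_or_odd i with ⟨j, rfl⟩ | ⟨j, rfl⟩
      · left; show z ^ (j + j) = 1
        rw [← two_mul, zpow_mul, zpow_two, mul_self_of_orderOf hzo, one_zpow]
      · right; show z ^ (2 * j + 1) = z
        rw [zpow_add_one, zpow_mul, zpow_two, mul_self_of_orderOf hzo, one_zpow, one_mul]
    haveI : (Ω.map (QuotientGroup.mk' (zpowers z))).Normal :=
      Subgroup.Normal.map inferInstance _ (QuotientGroup.mk'_surjective _)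
    have hne : Ω.map (QuotientGroup.mk' (zpowers z)) ≠ ⊥ := by
      intro h
      have h1 : ∀ x ∈ Ω, x ∈ zpowers z := fun x hx => by
        have := mem_map_of_mem (QuotientGroup.mk' (zpowers z)) hx
        rwa [h, mem_bot, QuotientGroup.mk'_apply, QuotientGroup.eq_one_iff] at this
      apply hab
      rw [(hzmem a (h1 a ⟨ha, mul_self_of_orderOf hao⟩)).resolve_left (ne_one_of_orderOf hao),
        (hzmem b (h1 b ⟨hb, mul_self_of_orderOf hbo⟩)).resolve_left (ne_one_of_orderOf hbo)]
    obtain ⟨q, ⟨e, he, rfl⟩, hqc, hqo⟩ :=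
      exists_central_mem_normal (hT.to_quotient (zpowers z)) _ hne
    have henot : e ∉ zpowers z := fun h => by
      rw [show QuotientGroup.mk' (zpowers z) e = 1 from (QuotientGroup.eq_one_iff e).mpr h] at hqo
      simp at hqo
    refine exists_four_of_conj hzo
      (orderOf_eq_two_iff'.mpr ⟨he.2, fun h => henot (h ▸ one_mem _)⟩) hzc
      (fun h => henot (h ▸ mem_zpowers z)) fun g => ?_
    have h1 : ((g * e * g⁻¹ : T) : T ⧸ zpowers z) = (e : T ⧸ zpowers z) := by
      simp only [QuotientGroup.mk_mul, QuotientGroup.mk_inv]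
      exact mul_inv_eq_iff_eq_mul.mpr (mem_center_iff.mp hqc g)
    rw [eq_comm, QuotientGroup.eq] at h1
    rcases hzmem _ h1 with h | h
    · left; exact (inv_mul_eq_one.mp h).symm
    · right; rw [← mem_center_iff.mp hzc e, ← h]; group
  · -- `A` has a unique involution, hence is cyclic
    push Not at hfour
    haveI : IsMulCommutative A := ⟨⟨fun a b => Subtype.ext (hAc a a.2 b b.2)⟩⟩
    obtain ⟨n, hn⟩ := IsPGroup.iff_card.mp (hT.to_subgroup A)
    haveI : IsCyclic A := by
      obtain ⟨a, -, hamax⟩ := Set.exists_max_image (Set.univ : Set A) orderOf (Set.toFinite _)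
        ⟨1, trivial⟩
      refine ⟨a, fun b => ?_⟩
      -- induction on the order: every `b` with `b²` in `⟨a⟩` is in `⟨a⟩`
      obtain ⟨k, hk⟩ := IsPGroup.iff_orderOf.mp (hT.to_subgroup A) b
      induction k generalizing b with
      | zero => rw [pow_zero, orderOf_eq_one_iff] at hk; exact ⟨0, by simp [hk]⟩
      | succ j ih =>
        have hb2 : b ^ 2 ∈ zpowers a := by
          apply ih
          rw [orderOf_pow' _ two_ne_zero, hk, Nat.gcd_eq_right (dvd_pow_self 2 (Nat.succ_ne_zero j)),
            pow_succ, Nat.mul_div_cancel _ two_pos]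
        obtain ⟨i, hi⟩ := hb2
        simp only at hi
        rcases Int.even_or_odd i with ⟨m, rfl⟩ | ⟨m, rfl⟩
        · -- `b a^{-m}` squares to one
          have hsq : (b * a ^ (-m)) * (b * a ^ (-m)) = 1 := by
            have hc : Commute b (a ^ (-m)) := Subtype.ext (hAc _ b.2 _ (a ^ (-m)).2)
            rw [← sq, hc.mul_pow, ← hi, ← zpow_natCast (a ^ (-m)), ← zpow_mul, ← zpow_add]
            simp [← two_mul]; ring_nf; simp
          by_cases h1 : b * a ^ (-m) = 1
          · rw [eq_inv_of_mul_eq_one_left h1]; exact inv_mem (zpow_mem (mem_zpowers a) _)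
          · obtain ⟨ka, hka⟩ := IsPGroup.iff_orderOf.mp (hT.to_subgroup A) a
            cases ka with
            | zero =>
              exfalso
              rw [pow_zero, orderOf_eq_one_iff] at hka
              have := hamax (b * a ^ (-m)) trivial
              rw [orderOf_eq_two_iff'.mpr ⟨hsq, h1⟩, hka, orderOf_one] at this
              omega
            | succ q =>
              have hw : orderOf (a ^ 2 ^ q) = 2 := by
                rw [orderOf_pow' _ (pow_ne_zero _ two_ne_zero), hka,
                  Nat.gcd_eq_right (pow_dvd_pow 2 (Nat.le_succ q)), pow_succ,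
                  Nat.mul_div_cancel_left _ (Nat.two_pow_pos q)]
              have heq : b * a ^ (-m) = a ^ 2 ^ q := Subtype.ext
                (hfour _ (b * a ^ (-m)).2 _ (a ^ 2 ^ q).2
                  (by rw [Subgroup.orderOf_coe]; exact orderOf_eq_two_iff'.mpr ⟨hsq, h1⟩)
                  (by rw [Subgroup.orderOf_coe]; exact hw))
              rw [show b = b * a ^ (-m) * a ^ m by group, heq]
              exact mul_mem (pow_mem (mem_zpowers a) _) (zpow_mem (mem_zpowers a) _)
        · -- an odd power: `b` has larger order than `a`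
          exfalso
          have hle := hamax b trivial
          obtain ⟨ka, hka⟩ := IsPGroup.iff_orderOf.mp (hT.to_subgroup A) a
          have hco : orderOf (b ^ 2) = orderOf a := by
            rw [← hi]
            refine orderOf_eq_orderOf_iff.mpr fun r => ?_
            rw [← zpow_natCast (a ^ (2 * m + 1)), ← zpow_mul, ← orderOf_dvd_iff_zpow_eq_one,
              ← orderOf_dvd_iff_pow_eq_one, hka, ← Int.natCast_dvd_natCast]
            refine ⟨fun h => ?_, fun h => h.mul_left _⟩
            refine (IsCoprime.dvd_of_dvd_mul_left ?_ h)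
            push_cast
            exact IsCoprime.pow_left ⟨-m, 1, by ring⟩
          rw [orderOf_pow' _ two_ne_zero, hk, Nat.gcd_eq_right (dvd_pow_self 2 (Nat.succ_ne_zero j)),
            pow_succ, Nat.mul_div_cancel _ two_pos] at hco
          rw [hk, ← hco, pow_succ] at hle
          have := Nat.two_pow_pos j
          omega
    obtain ⟨⟨a, ha⟩, hgen⟩ := IsCyclic.exists_generator (α := A)
    have hgen' : ∀ b ∈ A, ∃ i : ℤ, a ^ i = b := fun b hb => by
      obtain ⟨i, hi⟩ := hgen ⟨b, hb⟩
      exact ⟨i, congrArg Subtype.val hi⟩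
    have hao : orderOf a = 2 ^ n := by
      rw [← hn, ← orderOf_eq_card_of_forall_mem_zpowers hgen, ← Subgroup.orderOf_coe]
    have hk : ∀ g : T, ∃ k : ℤ, g * a * g⁻¹ = a ^ k := fun g =>
      (hgen' _ (hAn.conj_mem a ha g)).imp fun k hk => hk.symm
    choose k hk using hk
    have hcent : ∀ g : T, g * a * g⁻¹ = a → g ∈ A := fun g hg => hself g fun b hb => by
      obtain ⟨i, rfl⟩ := hgen' b hb
      exact (Commute.zpow_right (mul_inv_eq_iff_eq_mul.mp hg : Commute g a) i).eq
    have hEA : Nat.card (A.subgroupOf E) ≤ 2 := by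
      haveI := Fintype.ofFinite (A.subgroupOf E)
      rw [Nat.card_eq_fintype_card]
      by_contra hlt
      obtain ⟨x, y, w, hxy, hxw, hyw⟩ := Fintype.two_lt_card_iff.mp (not_le.mp hlt)
      have key : ∀ p q : A.subgroupOf E, p ≠ 1 → q ≠ 1 → p = q := by
        intro p q hp hq
        have ho : ∀ r : A.subgroupOf E, r ≠ 1 → orderOf ((r : E) : T) = 2 := fun r hr =>
          orderOf_eq_two_iff'.mpr ⟨hEexp _ r.1.2, fun h => hr (Subtype.ext (Subtype.ext h))⟩
        exact Subtype.ext (Subtype.ext (hfour _ p.2 _ q.2 (ho p hp) (ho q hq)))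
      by_cases hx1 : x = 1
      · exact hyw (key y w (fun h => hxy (hx1.trans h.symm)) (fun h => hxw (hx1.trans h.symm)))
      · by_cases hy1 : y = 1
        · exact hxw (key x w hx1 (fun h => hyw (hy1.trans h.symm)))
        · exact hxy (key x y hx1 hy1)
    have hidx : 4 ≤ (A.subgroupOf E).index := by
      have h1 := (A.subgroupOf E).card_mul_index
      by_contra h
      have : Nat.card (A.subgroupOf E) * (A.subgroupOf E).index ≤ 2 * 3 :=
        Nat.mul_le_mul hEA (by omega)
      omega
    -- the action of `E` on the cyclic group takes at least four values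
    have hinj : ∀ e f : E, ((2 : ℤ) ^ n ∣ k e - k f) → ((e : E ⧸ A.subgroupOf E) = f) := by
      intro e f hef
      rw [QuotientGroup.eq]
      show ((e⁻¹ * f : E) : T) ∈ A
      apply hcent
      have h1 : a ^ k e = a ^ k f := by
        rw [zpow_eq_zpow_iff_modEq, Int.modEq_iff_dvd, hao]
        push_cast
        exact (dvd_sub_comm).mp hef
      rw [← hk, ← hk] at h1
      calc ((e⁻¹ * f : E) : T) * a * ((e⁻¹ * f : E) : T)⁻¹
          = (e : T)⁻¹ * ((f : T) * a * (f : T)⁻¹) * (e : T) := by
            simp [mul_assoc]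
        _ = (e : T)⁻¹ * ((e : T) * a * (e : T)⁻¹) * (e : T) := by rw [h1]
        _ = a := by group
    have hkk : ∀ e : E, (2 : ℤ) ^ n ∣ k e * k e - 1 := by
      intro e
      have h1 : a ^ (k e * k e) = a := by
        rw [zpow_mul, ← hk, conj_zpow, ← hk, show (e : T) * ((e : T) * a * (e : T)⁻¹) * (e : T)⁻¹ =
          ((e : T) * e) * a * ((e : T) * e)⁻¹ by group, hEexp _ e.2]
        simp
      have h2 : a ^ (k e * k e) = a ^ (1 : ℤ) := by rw [h1, zpow_one]
      rw [zpow_eq_zpow_iff_modEq, Int.modEq_iff_dvd, hao] at h2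
      push_cast at h2
      exact (dvd_sub_comm).mp h2
    obtain ⟨m, hm⟩ | hsmall : (∃ m, n = m + 3) ∨ n ≤ 2 := by
      rcases le_or_gt n 2 with h | h
      · exact Or.inr h
      · exact Or.inl ⟨n - 3, by omega⟩
    · -- some element of `E` acts as `1 + 2^(n-1)`
      have hex : ∃ e : E, (2 : ℤ) ^ n ∣ k e - (1 + 2 ^ (m + 2)) := by
        by_contra hno
        push Not at hno
        let val : E ⧸ A.subgroupOf E → Fin 3 := fun q =>
          if (2 : ℤ) ^ n ∣ k q.out - 1 then 0 else
            if (2 : ℤ) ^ n ∣ k q.out + 1 then 1 else 2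
        have hval : Function.Injective val := by
          intro p q hpq
          rw [← QuotientGroup.out_eq' p, ← QuotientGroup.out_eq' q]
          apply hinj
          have cases4 : ∀ e : E, (2 : ℤ) ^ n ∣ k e - 1 ∨ (2 : ℤ) ^ n ∣ k e + 1 ∨
              (2 : ℤ) ^ n ∣ k e + 1 - 2 ^ (m + 2) := by
            intro e
            have h := hkk e
            rw [hm, show m + 3 = (m + 1) + 2 from rfl] at h
            rcases sq_eq_one_mod_two_pow h with ⟨c, hc⟩ | ⟨c, hc⟩
            · rcases Int.even_or_odd c with ⟨i, rfl⟩ | ⟨i, rfl⟩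
              · left; exact ⟨i, by rw [hc, hm]; ring⟩
              · exfalso; exact hno e ⟨i, by rw [hm]; linear_combination hc⟩
            · rcases Int.even_or_odd c with ⟨i, rfl⟩ | ⟨i, rfl⟩
              · right; left; exact ⟨i, by rw [hc, hm]; ring⟩
              · right; right; exact ⟨i, by rw [hm]; linear_combination hc⟩
          simp only [val] at hpq
          by_cases p1 : (2 : ℤ) ^ n ∣ k p.out - 1 <;> by_cases q1 : (2 : ℤ) ^ n ∣ k q.out - 1 <;>
            simp only [p1, q1, if_true, if_false] at hpq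
          · simpa using dvd_sub p1 q1
          · split at hpq <;> exact absurd hpq (by decide)
          · split at hpq <;> exact absurd hpq (by decide)
          · by_cases p2 : (2 : ℤ) ^ n ∣ k p.out + 1 <;> by_cases q2 : (2 : ℤ) ^ n ∣ k q.out + 1 <;>
              simp only [p2, q2, if_true, if_false] at hpq
            · simpa using dvd_sub p2 q2
            · exact absurd hpq (by decide)
            · exact absurd hpq (by decide)
            · have hp3 := ((cases4 p.out).resolve_left p1).resolve_left p2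
              have hq3 := ((cases4 q.out).resolve_left q1).resolve_left q2
              simpa using dvd_sub hp3 hq3
        have := Nat.card_le_card_of_injective val hval
        rw [Nat.card_fin, ← index_eq_card] at this
        omega
      obtain ⟨⟨e, heE⟩, hke⟩ := hex
      have hae : e * a * e⁻¹ = a ^ (1 + 2 ^ (m + 2) : ℤ) := by
        rw [hk, zpow_eq_zpow_iff_modEq, Int.modEq_iff_dvd, hao]
        push_cast
        exact (dvd_sub_comm).mp hke
      set z := a ^ (2 ^ (m + 2) : ℕ) with hz
      have hzo : orderOf z = 2 := by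
        rw [hz, orderOf_pow' _ (pow_ne_zero _ two_ne_zero), hao, hm,
          Nat.gcd_eq_right (pow_dvd_pow 2 (by omega)), show 2 ^ (m + 3) = 2 ^ (m + 2) * 2 from rfl,
          Nat.mul_div_cancel_left _ (Nat.two_pow_pos _)]
      have hzA : z ∈ A := pow_mem ha _
      have hzc : z ∈ center T := by
        rw [mem_center_iff]
        intro g
        have ho : orderOf (g * z * g⁻¹) = 2 :=
          (orderOf_injective (MulAut.conj g).toMonoidHom (MulAut.conj g).injective z).trans hzo
        exact mul_inv_eq_iff_eq_mul.mp (hfour _ (hAn.conj_mem z hzA g) _ hzA ho hzo)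
      have henA : e ∉ A := by
        intro heA
        rw [hAc e heA a ha, mul_inv_cancel_right] at hae
        have h2 : a ^ (1 : ℤ) = a ^ (1 + 2 ^ (m + 2) : ℤ) := by rw [← hae, zpow_one]
        rw [zpow_eq_zpow_iff_modEq, Int.modEq_iff_dvd, hao, hm] at h2
        push_cast at h2
        rw [show (1 : ℤ) + 2 ^ (m + 2) - 1 = 2 ^ (m + 2) by ring, pow_succ] at h2
        have h3 := Int.le_of_dvd (by positivity) h2
        have h4 : (0 : ℤ) < 2 ^ (m + 2) := by positivity
        omega
      have heo : orderOf e = 2 :=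
        orderOf_eq_two_iff'.mpr ⟨hEexp e heE, fun h => henA (h ▸ one_mem A)⟩
      refine exists_four_of_conj hzo heo hzc (fun h => henA (h ▸ hzA)) fun g => ?_
      -- `[g, e]` centralises `A`
      have hd : g * e * g⁻¹ * e⁻¹ ∈ A := by
        apply hcent
        have hg' : g⁻¹ * a * g = a ^ k g⁻¹ := by simpa using hk g⁻¹
        have he' : e⁻¹ * a * e = e * a * e⁻¹ := by rw [inv_of_orderOf heo]
        calc g * e * g⁻¹ * e⁻¹ * a * (g * e * g⁻¹ * e⁻¹)⁻¹
            = g * (e * (g⁻¹ * (e⁻¹ * a * e) * g) * e⁻¹) * g⁻¹ := by group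
          _ = g * (e * (g⁻¹ * a ^ (1 + 2 ^ (m + 2) : ℤ) * g) * e⁻¹) * g⁻¹ := by rw [he', hae]
          _ = g * (e * (g⁻¹ * a * g) ^ (1 + 2 ^ (m + 2) : ℤ) * e⁻¹) * g⁻¹ := by
              have := conj_zpow (a := g⁻¹) (b := a) (i := (1 + 2 ^ (m + 2) : ℤ))
              rw [inv_inv] at this; rw [this]
          _ = g * (e * a * e⁻¹) ^ (k g⁻¹ * (1 + 2 ^ (m + 2))) * g⁻¹ := by
              rw [hg', ← zpow_mul, conj_zpow]
          _ = (g * a * g⁻¹) ^ ((1 + 2 ^ (m + 2) : ℤ) * (k g⁻¹ * (1 + 2 ^ (m + 2)))) := by
              rw [hae, ← zpow_mul, conj_zpow]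
          _ = a := by
              have hsq : a ^ ((1 + 2 ^ (m + 2) : ℤ) * (1 + 2 ^ (m + 2))) = a := by
                rw [zpow_mul, ← hae, conj_zpow, ← hae,
                  show e * (e * a * e⁻¹) * e⁻¹ = (e * e) * a * (e * e)⁻¹ by group, hEexp e heE]
                simp
              have hone : (g * a * g⁻¹) ^ k g⁻¹ = a := by rw [conj_zpow, ← hg']; group
              rw [show (1 + 2 ^ (m + 2) : ℤ) * (k g⁻¹ * (1 + 2 ^ (m + 2))) =
                k g⁻¹ * ((1 + 2 ^ (m + 2)) * (1 + 2 ^ (m + 2))) by ring, zpow_mul, hone, hsq]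
      obtain ⟨i, hi⟩ := hgen' _ hd
      have hf : g * e * g⁻¹ = a ^ i * e := by rw [hi]; group
      have hsq : a ^ (i * (2 + 2 ^ (m + 2))) = 1 := by
        have h1 : a ^ i * e * (a ^ i * e) = 1 := by
          rw [← hf, show g * e * g⁻¹ * (g * e * g⁻¹) = g * (e * e) * g⁻¹ by group, hEexp e heE]
          group
        calc a ^ (i * (2 + 2 ^ (m + 2))) = a ^ i * (e * a * e⁻¹) ^ i := by
              rw [hae, ← zpow_mul, ← zpow_add]; congr 1; ring
          _ = a ^ i * e * (a ^ i * e) := by rw [conj_zpow, inv_of_orderOf heo]; group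
          _ = 1 := h1
      rw [← orderOf_dvd_iff_zpow_eq_one, hao, hm] at hsq
      push_cast at hsq
      have hdiv : (2 : ℤ) ^ (m + 2) ∣ i := by
        obtain ⟨c, hc⟩ := hsq
        have hc' : i * (1 + 2 ^ (m + 1)) = 2 ^ (m + 2) * c :=
          mul_left_cancel₀ (two_ne_zero (α := ℤ)) (by
            rw [show m + 3 = m + 2 + 1 from rfl, pow_succ (2 : ℤ) (m + 2)] at hc
            rw [pow_succ (2 : ℤ) (m + 1)] at hc ⊢
            linear_combination hc)
        exact IsCoprime.dvd_of_dvd_mul_right
          (IsCoprime.pow_left ⟨-2 ^ m, 1, by ring⟩) ⟨c, hc'⟩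
      obtain ⟨c, rfl⟩ := hdiv
      have hai : a ^ ((2 : ℤ) ^ (m + 2) * c) = z ^ c := by
        rw [hz, ← zpow_natCast, ← zpow_mul]; norm_num
      rcases Int.even_or_odd c with ⟨j, rfl⟩ | ⟨j, rfl⟩
      · left
        rw [hf, hai, ← two_mul, zpow_mul, zpow_two, mul_self_of_orderOf hzo, one_zpow, one_mul]
      · right
        rw [hf, hai, zpow_add_one, zpow_mul, zpow_two, mul_self_of_orderOf hzo, one_zpow, one_mul]
    · -- small `A`: at most two values
      exfalso
      let val : E ⧸ A.subgroupOf E → Fin 2 := fun q =>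
        if (2 : ℤ) ^ n ∣ k q.out - 1 then 0 else 1
      have hval : Function.Injective val := by
        intro p q hpq
        rw [← QuotientGroup.out_eq' p, ← QuotientGroup.out_eq' q]
        apply hinj
        simp only [val] at hpq
        have hp' := hkk p.out
        have hq' := hkk q.out
        by_cases p1 : (2 : ℤ) ^ n ∣ k p.out - 1 <;> by_cases q1 : (2 : ℤ) ^ n ∣ k q.out - 1 <;>
          simp only [p1, q1, if_true, if_false] at hpq
        · simpa using dvd_sub p1 q1
        · exact absurd hpq (by decide)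
        · exact absurd hpq (by decide)
        · -- both act as `-1` modulo `4`
          have hpow : (2 : ℤ) ^ n ∣ 4 := by
            rw [show (4 : ℤ) = 2 ^ 2 by norm_num]; exact pow_dvd_pow 2 hsmall
          have hodd : ∀ {j : ℤ}, (2 : ℤ) ^ n ∣ j * j - 1 → ¬ (2 : ℤ) ^ n ∣ j - 1 →
              n = 2 ∧ (4 : ℤ) ∣ j + 1 := by
            intro j hj hj1
            interval_cases n
            · exact absurd (by simp) hj1
            · exfalso
              rcases Int.even_or_odd j with ⟨i, rfl⟩ | ⟨i, rfl⟩
              · obtain ⟨c, hc⟩ := hj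
                have : (1 : ℤ) = 2 * (2 * i * i - c) := by linear_combination (-1 : ℤ) * hc
                omega
              · exact hj1 ⟨i, by ring⟩
            · refine ⟨rfl, ?_⟩
              rcases Int.even_or_odd j with ⟨i, rfl⟩ | ⟨i, rfl⟩
              · obtain ⟨c, hc⟩ := hj
                have : (1 : ℤ) = 2 * (2 * i * i - 2 * c) := by linear_combination (-1 : ℤ) * hc
                omega
              · rcases Int.even_or_odd i with ⟨r, rfl⟩ | ⟨r, rfl⟩
                · exact absurd ⟨r, by ring⟩ hj1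
                · exact ⟨r + 1, by ring⟩
          obtain ⟨hn2, hp4⟩ := hodd hp' p1
          obtain ⟨-, hq4⟩ := hodd hq' q1
          rw [hn2]
          simpa using dvd_sub hp4 hq4
      have := Nat.card_le_card_of_injective val hval
      rw [Nat.card_fin, ← index_eq_card] at this
      omega

end Cfsg.Agent.Involution
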