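import Cfsg.Agent.Lib.Involution.Dihedral
import Cfsg.Agent.Lib.Involution.BaerSuzuki
import Mathlib.GroupTheory.Transfer

/-!
# Subgroups of index two: Thompson transfer and cyclic Sylow 2-subgroups
-/

set_option autoImplicit false

namespace Cfsg.Agent.Involution

open Subgroup

variable {G : Type*} [Group G]

/-- **Thompson's transfer lemma**: if `Q` has index 2 in a Sylow 2-subgroup and no conjugate of the
involution `u` lies in `Q`, then `u` is outside a normal subgroup of index 2 of `G`. -/
theorem thompson_transfer [Finite G] (P : Sylow 2 G) (Q : Subgroup G)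
    (hQP : Q ≤ (P : Subgroup G)) (hQi : Q.relIndex (P : Subgroup G) = 2) {u : G}
    (hu : u * u = 1) (hno : ∀ g : G, g * u * g⁻¹ ∉ Q) :
    ∃ M : Subgroup G, M.Normal ∧ M.index = 2 ∧ u ∉ M := by
  classical
  haveI : Fact (Nat.Prime 2) := ⟨Nat.prime_two⟩
  haveI := Fintype.ofFinite (G ⧸ Q)
  let σ : G →* Equiv.Perm (G ⧸ Q) := MulAction.toPermHom G (G ⧸ Q)
  let f : G →* ℤˣ := Equiv.Perm.sign.comp σ
  have hfix : Fintype.card (Function.fixedPoints (σ u)) = 0 := by
    rw [Fintype.card_eq_zero_iff]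
    refine ⟨fun ⟨q, hq⟩ => ?_⟩
    induction q using QuotientGroup.induction_on with
    | H g =>
      have h1 : ((u * g : G) : G ⧸ Q) = (g : G ⧸ Q) := hq
      rw [eq_comm, QuotientGroup.eq] at h1
      exact hno g⁻¹ (by rw [inv_inv, mul_assoc]; exact h1)
  obtain ⟨m, hm⟩ : ∃ m, Fintype.card (G ⧸ Q) = 2 * (2 * m + 1) := by
    obtain ⟨m, hm⟩ : Odd (P : Subgroup G).index :=
      Nat.not_even_iff_odd.mp fun h => P.not_dvd_index (even_iff_two_dvd.mp h)
    refine ⟨m, ?_⟩
    rw [← Nat.card_eq_fintype_card, ← index_eq_card, ← relIndex_mul_index hQP, hQi, hm]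
  have hfu : f u = -1 := by
    have h2 : σ u ^ 2 = 1 := by rw [sq, ← map_mul, hu, map_one]
    show Equiv.Perm.sign (σ u) = -1
    rw [Equiv.Perm.sign_of_pow_two_eq_one h2, hfix, hm,
      show (2 * (2 * m + 1) - 0) / 2 = 2 * m + 1 by omega]
    exact Odd.neg_one_pow ⟨m, rfl⟩
  refine ⟨f.ker, inferInstance, ?_, fun h => ?_⟩
  · rw [Subgroup.index_ker, MonoidHom.range_eq_top.mpr, Subgroup.card_top]
    · rw [Nat.card_eq_fintype_card, Fintype.card_units_int]
    · intro z
      rcases Int.units_eq_one_or z with rfl | rfl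
      · exact ⟨1, map_one f⟩
      · exact ⟨u, hfu⟩
  · rw [MonoidHom.mem_ker, hfu] at h
    exact absurd h (by decide)

/-- A finite group of even order with a cyclic Sylow 2-subgroup has a subgroup of index 2. -/
theorem exists_index_two_of_cyclic_sylow [Finite G] (heven : Even (Nat.card G)) (T : Sylow 2 G)
    (hT : IsCyclic (T : Subgroup G)) : ∃ H : Subgroup G, H.index = 2 := by
  haveI : Fact (Nat.Prime 2) := ⟨Nat.prime_two⟩
  have hp : (Nat.card G).minFac = 2 := (Nat.minFac_eq_two_iff _).mpr (even_iff_two_dvd.mp heven)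
  have hN := IsCyclic.normalizer_le_centralizer hp hT
  have hsurj : Function.Surjective (MonoidHom.transferSylow T hN) := by
    intro y
    obtain ⟨x, hx⟩ := (T.2.powEquiv' T.not_dvd_index).surjective y
    refine ⟨(x : G), ?_⟩
    have h1 := congrFun (MonoidHom.transferSylow_domRestrict_eq_pow T hN) x
    exact h1.trans hx
  obtain ⟨n, hn⟩ := IsPGroup.iff_card.mp T.isPGroup'
  have hdvd : 2 ∣ Nat.card (T : Subgroup G) := T.dvd_card_of_dvd_card (even_iff_two_dvd.mp heven)
  have hn0 : n ≠ 0 := by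
    rintro rfl
    rw [hn] at hdvd
    norm_num at hdvd
  obtain ⟨K, hK⟩ := Sylow.exists_subgroup_card_pow_prime 2
    (show 2 ^ (n - 1) ∣ Nat.card (T : Subgroup G) by rw [hn]; exact pow_dvd_pow 2 (by omega))
  refine ⟨K.comap (MonoidHom.transferSylow T hN), ?_⟩
  rw [index_comap_of_surjective _ hsurj]
  have h1 := K.card_mul_index
  rw [hK, hn, show 2 ^ n = 2 ^ (n - 1) * 2 by rw [← pow_succ]; congr 1; omega] at h1
  exact Nat.eq_of_mul_eq_mul_left (by positivity) h1

/-- A cyclic group has at most one involution. -/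
theorem involution_unique_of_isCyclic {H : Type*} [Group H] [Finite H] [IsCyclic H] {a b : H}
    (ha : orderOf a = 2) (hb : orderOf b = 2) : a = b := by
  classical
  haveI := Fintype.ofFinite H
  by_contra hne
  have h1 : ({1, a, b} : Finset H) ⊆ Finset.univ.filter fun y : H => y ^ 2 = 1 := by
    intro y hy
    simp only [Finset.mem_insert, Finset.mem_singleton] at hy
    simp only [Finset.mem_filter, Finset.mem_univ, true_and]
    rcases hy with rfl | rfl | rfl
    · exact one_pow 2
    · rw [sq]; exact mul_self_of_orderOf ha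
    · rw [sq]; exact mul_self_of_orderOf hb
  have h2 := (Finset.card_le_card h1).trans (IsCyclic.card_pow_eq_one_le (α := H) two_pos)
  rw [Finset.card_eq_three.mpr ⟨1, a, b, (ne_one_of_orderOf ha).symm,
    (ne_one_of_orderOf hb).symm, hne, rfl⟩] at h2
  omega

/-- An involution whose centraliser has a cyclic Sylow 2-subgroup forces a subgroup of index 2. -/
theorem exists_index_two_of_cyclic_centralizer [Finite G] {x : G} (hx : orderOf x = 2)
    (S : Sylow 2 ↥(centralizer ({x} : Set G)))
    (hS : IsCyclic (S : Subgroup ↥(centralizer ({x} : Set G)))) :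
    ∃ H : Subgroup G, H.index = 2 := by
  haveI : Fact (Nat.Prime 2) := ⟨Nat.prime_two⟩
  have hcyc : ∀ S' : Sylow 2 ↥(centralizer ({x} : Set G)), IsCyclic (S' : Subgroup ↥(centralizer ({x} : Set G))) :=
    fun S' => (MulEquiv.isCyclic (S.equiv S')).mp hS
  set C := centralizer ({x} : Set G) with hC
  have hall : ∀ R : Subgroup G, IsPGroup 2 R → R ≤ C → IsCyclic R := by
    intro R hR hRC
    obtain ⟨S', hS'⟩ := (hR.of_equiv (subgroupOfEquivOfLe hRC).symm).exists_le_sylow
    haveI : IsCyclic (S' : Subgroup C) := hcyc S'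
    haveI := isCyclic_of_injective _ (inclusion_injective hS')
    exact isCyclic_of_surjective (subgroupOfEquivOfLe hRC).toMonoidHom
      (subgroupOfEquivOfLe hRC).surjective
  have hxp : IsPGroup 2 (zpowers x) := IsPGroup.of_card (n := 1) (by rw [Nat.card_zpowers, hx]; rfl)
  obtain ⟨T, hT⟩ := hxp.exists_le_sylow
  have hxT : x ∈ (T : Subgroup G) := hT (mem_zpowers x)
  have hxT' : (⟨x, hxT⟩ : (T : Subgroup G)) ≠ 1 := fun h =>
    ne_one_of_orderOf hx (congrArg Subtype.val h)
  haveI : Nontrivial (T : Subgroup G) := ⟨⟨_, _, hxT'⟩⟩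
  haveI := T.isPGroup'.center_nontrivial
  obtain ⟨z, hz⟩ := exists_prime_orderOf_dvd_card' 2 <| by
    obtain ⟨k, hk⟩ := IsPGroup.iff_card.mp (T.isPGroup'.to_subgroup (center (T : Subgroup G)))
    rw [hk]
    refine dvd_pow_self 2 ?_
    rintro rfl
    exact absurd hk (Finite.one_lt_card (α := center (T : Subgroup G))).ne'
  have hz2 : orderOf ((z : (T : Subgroup G)) : G) = 2 := by
    rw [Subgroup.orderOf_coe, Subgroup.orderOf_coe, hz]
  have hzc : ∀ t : G, t ∈ (T : Subgroup G) → t * (z : (T : Subgroup G)) = (z : (T : Subgroup G)) * t :=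
    fun t ht => congrArg Subtype.val (mem_center_iff.mp z.2 ⟨t, ht⟩)
  set w : G := ((z : (T : Subgroup G)) : G) with hw
  -- `w` and `x` lie in a cyclic 2-subgroup of the centraliser, so they are equal
  have hR : IsCyclic ((T : Subgroup G) ⊓ C : Subgroup G) :=
    hall _ (T.isPGroup'.to_le inf_le_left) inf_le_right
  have hwx : w = x := by
    have h1 : (⟨w, ⟨(z : (T : Subgroup G)).2,
        mem_centralizer_iff.mpr (by simpa using hzc x hxT)⟩⟩ : ((T : Subgroup G) ⊓ C : Subgroup G))
          = ⟨x, hxT, mem_centralizer_iff.mpr (by simp)⟩ := by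
      apply involution_unique_of_isCyclic (H := ((T : Subgroup G) ⊓ C : Subgroup G))
      · rw [← Subgroup.orderOf_coe]; exact hz2
      · rw [← Subgroup.orderOf_coe]; exact hx
    exact congrArg Subtype.val h1
  have hTC : (T : Subgroup G) ≤ C := by
    intro t ht
    rw [hC, mem_centralizer_iff]
    simpa [hwx] using (hzc t ht).symm
  refine exists_index_two_of_cyclic_sylow ?_ T (hall _ T.isPGroup' hTC)
  rw [even_iff_two_dvd, ← hx]
  exact orderOf_dvd_natCard x

end Cfsg.Agent.Involution
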