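import Mathlib.GroupTheory.SpecificGroups.Dihedral
import Mathlib.GroupTheory.Perm.Cycle.Type

/-!
# Pairs of involutions and the dihedral groups they generate
-/

set_option autoImplicit false

namespace Cfsg.Agent.Involution

open Subgroup

variable {G : Type*} [Group G]

theorem mul_self_of_orderOf {x : G} (hx : orderOf x = 2) : x * x = 1 := by
  have h := pow_orderOf_eq_one x
  rwa [hx, sq] at h

theorem inv_of_orderOf {x : G} (hx : orderOf x = 2) : x⁻¹ = x :=
  inv_eq_of_mul_eq_one_right (mul_self_of_orderOf hx)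

theorem ne_one_of_orderOf {x : G} (hx : orderOf x = 2) : x ≠ 1 := by
  rintro rfl
  simp at hx

theorem orderOf_eq_two_iff' {x : G} : orderOf x = 2 ↔ x * x = 1 ∧ x ≠ 1 := by
  constructor
  · exact fun h => ⟨mul_self_of_orderOf h, ne_one_of_orderOf h⟩
  · intro h
    haveI : Fact (Nat.Prime 2) := ⟨Nat.prime_two⟩
    exact orderOf_eq_prime (by rw [sq]; exact h.1) h.2

/-- An element that inverts `r` moves past every integer power of `r`, inverting it. -/
theorem mul_zpow_of_inverts {x r : G} (h : x * r * x⁻¹ = r⁻¹) (k : ℤ) :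
    x * r ^ k = r ^ (-k) * x := by
  have h1 : (x * r * x⁻¹) ^ k = r ^ (-k) := by rw [h, inv_zpow, zpow_neg]
  rw [conj_zpow] at h1
  rw [← h1]
  group

section Pair

variable {x y : G} (hx : x * x = 1) (hy : y * y = 1)

include hx hy

/-- The first of two involutions inverts their product. -/
theorem inverts_mul : x * (x * y) * x⁻¹ = (x * y)⁻¹ := by
  rw [mul_inv_rev, inv_eq_of_mul_eq_one_right hy, inv_eq_of_mul_eq_one_right hx, ← mul_assoc x x,
    hx, one_mul]

theorem left_mul_zpow_mul (k : ℤ) : x * (x * y) ^ k * x = (x * y) ^ (-k) := by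
  rw [mul_zpow_of_inverts (inverts_mul hx hy), mul_assoc, hx, mul_one]

theorem zpow_mul_left (k : ℤ) : (x * y) ^ k * x = x * (x * y) ^ (-k) := by
  rw [mul_zpow_of_inverts (inverts_mul hx hy), neg_neg]

theorem left_mul_zpow_sq (k : ℤ) : x * (x * y) ^ k * (x * (x * y) ^ k) = 1 := by
  rw [← mul_assoc, left_mul_zpow_mul hx hy, zpow_neg, inv_mul_cancel]

/-- Conjugating the first involution by a power of the product. -/
theorem conj_zpow_left (k : ℤ) :
    (x * y) ^ k * x * ((x * y) ^ k)⁻¹ = x * (x * y) ^ (-(2 * k)) := by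
  rw [zpow_mul_left hx hy, ← zpow_neg, mul_assoc, ← zpow_add]
  ring_nf

/-- The elements of the subgroup generated by two involutions. -/
theorem mem_closure_pair_involutions {d : G} :
    d ∈ closure ({x, y} : Set G) ↔ ∃ k : ℤ, d = (x * y) ^ k ∨ d = x * (x * y) ^ k := by
  constructor
  · intro hd
    induction hd using closure_induction with
    | mem z hz =>
      rcases hz with rfl | rfl
      · exact ⟨0, Or.inr (by simp)⟩
      · exact ⟨1, Or.inr (by rw [zpow_one, ← mul_assoc, hx, one_mul])⟩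
    | one => exact ⟨0, Or.inl (by simp)⟩
    | mul a b _ _ ha hb =>
      obtain ⟨i, rfl | rfl⟩ := ha <;> obtain ⟨j, rfl | rfl⟩ := hb
      · exact ⟨i + j, Or.inl (zpow_add _ _ _).symm⟩
      · exact ⟨-i + j, Or.inr (by rw [← mul_assoc, zpow_mul_left hx hy, mul_assoc, ← zpow_add])⟩
      · exact ⟨i + j, Or.inr (by rw [mul_assoc, ← zpow_add])⟩
      · exact ⟨-i + j, Or.inl (by rw [← mul_assoc, left_mul_zpow_mul hx hy, ← zpow_add])⟩
    | inv a _ ha =>
      obtain ⟨i, rfl | rfl⟩ := ha
      · exact ⟨-i, Or.inl (zpow_neg _ _).symm⟩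
      · exact ⟨i, Or.inr (inv_eq_of_mul_eq_one_right (left_mul_zpow_sq hx hy i))⟩
  · have h1 : x ∈ closure ({x, y} : Set G) := subset_closure (by simp)
    have h2 : y ∈ closure ({x, y} : Set G) := subset_closure (by simp)
    rintro ⟨k, rfl | rfl⟩
    · exact zpow_mem (mul_mem h1 h2) k
    · exact mul_mem h1 (zpow_mem (mul_mem h1 h2) k)

/-- Conjugates of `x` inside the subgroup generated by `x, y`. -/
theorem conj_left_of_mem_closure {d : G} (hd : d ∈ closure ({x, y} : Set G)) :
    ∃ k : ℤ, d * x * d⁻¹ = x * (x * y) ^ (2 * k) := by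
  obtain ⟨i, rfl | rfl⟩ := (mem_closure_pair_involutions hx hy).mp hd
  · exact ⟨-i, by rw [conj_zpow_left hx hy]; ring_nf⟩
  · refine ⟨i, ?_⟩
    have h := conj_zpow_left hx hy i
    calc x * (x * y) ^ i * x * (x * (x * y) ^ i)⁻¹
        = x * ((x * y) ^ i * x * ((x * y) ^ i)⁻¹) * x⁻¹ := by group
      _ = x * (x * (x * y) ^ (-(2 * i))) * x⁻¹ := by rw [h]
      _ = x * (x * (x * y) ^ (-(2 * i)) * x) := by
          rw [inv_eq_of_mul_eq_one_right hx, mul_assoc]
      _ = x * (x * y) ^ (2 * i) := by rw [left_mul_zpow_mul hx hy, neg_neg]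

/-- The product of two involutions of odd order: they are conjugate by a power of the product. -/
theorem exists_conj_of_odd (hodd : Odd (orderOf (x * y))) :
    ∃ k : ℤ, (x * y) ^ k * x * ((x * y) ^ k)⁻¹ = y := by
  obtain ⟨m, hm⟩ := hodd
  refine ⟨m, ?_⟩
  have h1 : (x * y) ^ (-(2 * (m : ℤ))) = x * y := by
    calc (x * y) ^ (-(2 * (m : ℤ)))
        = (x * y) ^ (-((orderOf (x * y) : ℤ))) * (x * y) := by
          rw [← zpow_add_one, hm]; congr 1; push_cast; ring
      _ = x * y := by rw [zpow_neg, zpow_natCast, pow_orderOf_eq_one, inv_one, one_mul]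
  rw [conj_zpow_left hx hy, h1, ← mul_assoc, hx, one_mul]

theorem not_mem_zpowers_left (hx1 : x ≠ 1) (hy1 : y ≠ 1) : x ∉ zpowers (x * y) := by
  rintro ⟨k, hk⟩
  simp only at hk
  have hc : x * (x * y) = x * y * x := by
    have h := ((Commute.refl (x * y)).zpow_left k).eq
    rwa [hk] at h
  rw [← mul_assoc, hx, one_mul] at hc
  have hsq : (x * y) ^ (2 : ℤ) = 1 := by
    rw [zpow_two, ← mul_assoc, ← hc, hy]
  rcases Int.even_or_odd k with ⟨j, rfl⟩ | ⟨j, rfl⟩
  · exact hx1 (by rw [← hk, ← two_mul, zpow_mul, hsq, one_zpow])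
  · rw [zpow_add, zpow_mul, hsq, one_zpow, one_mul, zpow_one] at hk
    exact hy1 (mul_eq_left.mp hk)

end Pair

/-- Two involutions with product of odd order are conjugate. -/
theorem isConj_of_odd {x y : G} (hx : orderOf x = 2) (hy : orderOf y = 2)
    (hodd : Odd (orderOf (x * y))) : IsConj x y := by
  obtain ⟨k, hk⟩ := exists_conj_of_odd (mul_self_of_orderOf hx) (mul_self_of_orderOf hy) hodd
  exact isConj_iff.mpr ⟨_, hk⟩

/-- The middle power of an element of positive even order is an involution. -/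
theorem orderOf_pow_half {r : G} (h : Even (orderOf r)) (hpos : orderOf r ≠ 0) :
    orderOf (r ^ (orderOf r / 2)) = 2 := by
  obtain ⟨m, hm⟩ := h
  have hm2 : orderOf r / 2 = m := by omega
  rw [hm2, orderOf_pow' _ (by omega : m ≠ 0), hm, show Nat.gcd (m + m) m = m by simp]
  exact Nat.div_eq_of_eq_mul_left (by omega) (by omega)

theorem pow_half_inv {r : G} (h : Even (orderOf r)) :
    (r ^ (orderOf r / 2))⁻¹ = r ^ (orderOf r / 2) := by
  obtain ⟨m, hm⟩ := h
  refine inv_eq_of_mul_eq_one_right ?_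
  rw [← pow_add, show orderOf r / 2 + orderOf r / 2 = orderOf r by omega, pow_orderOf_eq_one]

theorem commute_pow_half_left {x y : G} (hx : x * x = 1) (hy : y * y = 1)
    (h : Even (orderOf (x * y))) : Commute ((x * y) ^ (orderOf (x * y) / 2)) x := by
  have h1 := zpow_mul_left hx hy ((orderOf (x * y) / 2 : ℕ) : ℤ)
  rw [zpow_neg, zpow_natCast, pow_half_inv h] at h1
  exact h1

theorem commute_pow_half_right {x y : G} (hx : x * x = 1) (hy : y * y = 1)
    (h : Even (orderOf (x * y))) : Commute ((x * y) ^ (orderOf (x * y) / 2)) y := by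
  have h1 : Commute ((x * y) ^ (orderOf (x * y) / 2)) (x * y) := Commute.pow_self _ _
  have h2 := (commute_pow_half_left hx hy h).mul_right h1
  rwa [← mul_assoc, hx, one_mul] at h2

/-- Two non-conjugate involutions have a common commuting involution in their dihedral group. -/
theorem exists_commuting_involution [Finite G] {x y : G} (hx : orderOf x = 2) (hy : orderOf y = 2)
    (hnc : ¬ IsConj x y) : ∃ z : G, orderOf z = 2 ∧ Commute z x ∧ Commute z y ∧
      z ∈ zpowers (x * y) := by
  have heven : Even (orderOf (x * y)) :=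
    Nat.not_odd_iff_even.mp fun h => hnc (isConj_of_odd hx hy h)
  have hpos : orderOf (x * y) ≠ 0 := (orderOf_pos _).ne'
  exact ⟨_, orderOf_pow_half heven hpos,
    commute_pow_half_left (mul_self_of_orderOf hx) (mul_self_of_orderOf hy) heven,
    commute_pow_half_right (mul_self_of_orderOf hx) (mul_self_of_orderOf hy) heven,
    npow_mem_zpowers _ _⟩

section Iso

/-- The homomorphism from a dihedral group given by an element and an involution inverting it. -/
def dihedralHom {n : ℕ} (x r : G) (hx : x * x = 1) (hr : r ^ n = 1)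
    (h : x * r * x⁻¹ = r⁻¹) : DihedralGroup n →* G :=
  MonoidHom.mk' (fun d => match d with
    | .r i => r ^ (ZMod.cast i : ℤ)
    | .sr i => x * r ^ (ZMod.cast i : ℤ)) (by
    have hcast : ∀ a b : ℤ, (a : ZMod n) = (b : ZMod n) → r ^ a = r ^ b := by
      intro a b hab
      obtain ⟨c, hc⟩ := (ZMod.intCast_eq_intCast_iff_dvd_sub _ _ _).mp hab
      rw [show b = a + (n : ℤ) * c by omega, zpow_add, zpow_mul, zpow_natCast, hr, one_zpow,
        mul_one]
    have hc : ∀ k : ℤ, x * r ^ k = r ^ (-k) * x := mul_zpow_of_inverts h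
    rintro (i | i) (j | j)
    · show r ^ _ = r ^ _ * r ^ _
      rw [← zpow_add]
      exact hcast _ _ (by simp [ZMod.intCast_zmod_cast])
    · show x * r ^ _ = r ^ _ * (x * r ^ _)
      have h2 := hc (-(ZMod.cast i : ℤ))
      rw [neg_neg] at h2
      rw [← mul_assoc, ← h2, mul_assoc, ← zpow_add]
      congr 1
      exact hcast _ _ (by simp [ZMod.intCast_zmod_cast]; ring)
    · show x * r ^ _ = x * r ^ _ * r ^ _
      rw [mul_assoc, ← zpow_add]
      congr 1
      exact hcast _ _ (by simp [ZMod.intCast_zmod_cast])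
    · show r ^ _ = x * r ^ _ * (x * r ^ _)
      rw [hc, mul_assoc, ← mul_assoc x x, hx, one_mul, ← zpow_add]
      exact hcast _ _ (by simp [ZMod.intCast_zmod_cast]; ring))

theorem dihedralHom_r {n : ℕ} (x r : G) (hx : x * x = 1) (hr : r ^ n = 1)
    (h : x * r * x⁻¹ = r⁻¹) (i : ZMod n) :
    dihedralHom x r hx hr h (.r i) = r ^ (ZMod.cast i : ℤ) := rfl

theorem dihedralHom_sr {n : ℕ} (x r : G) (hx : x * x = 1) (hr : r ^ n = 1)
    (h : x * r * x⁻¹ = r⁻¹) (i : ZMod n) :
    dihedralHom x r hx hr h (.sr i) = x * r ^ (ZMod.cast i : ℤ) := rfl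

/-- Two distinct involutions generate a dihedral group. -/
theorem closure_pair_equiv_dihedral {x y : G} (hx : orderOf x = 2) (hy : orderOf y = 2) :
    Nonempty (↥(closure ({x, y} : Set G)) ≃* DihedralGroup (orderOf (x * y))) := by
  have hx' := mul_self_of_orderOf hx
  have hy' := mul_self_of_orderOf hy
  let f : DihedralGroup (orderOf (x * y)) →* G :=
    dihedralHom x (x * y) hx' (pow_orderOf_eq_one _) (inverts_mul hx' hy')
  have hinj : Function.Injective f := by
    rw [injective_iff_map_eq_one]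
    rintro (i | i) hi
    · rw [dihedralHom_r, ← orderOf_dvd_iff_zpow_eq_one] at hi
      have : ((ZMod.cast i : ℤ) : ZMod (orderOf (x * y))) = 0 :=
        (ZMod.intCast_zmod_eq_zero_iff_dvd _ _).mpr hi
      rw [ZMod.intCast_zmod_cast] at this
      rw [this, DihedralGroup.r_zero]
    · rw [dihedralHom_sr, mul_eq_one_iff_eq_inv, ← zpow_neg] at hi
      exact absurd ⟨_, hi.symm⟩ (not_mem_zpowers_left hx' hy' (ne_one_of_orderOf hx) (ne_one_of_orderOf hy))
  have hrange : f.range = closure ({x, y} : Set G) := by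
    apply le_antisymm
    · rintro _ ⟨(i | i), rfl⟩
      · exact (mem_closure_pair_involutions hx' hy').mpr ⟨_, Or.inl rfl⟩
      · exact (mem_closure_pair_involutions hx' hy').mpr ⟨_, Or.inr rfl⟩
    · intro d hd
      obtain ⟨k, rfl | rfl⟩ := (mem_closure_pair_involutions hx' hy').mp hd
      all_goals
        have hk : (x * y) ^ (ZMod.cast (k : ZMod (orderOf (x * y))) : ℤ) = (x * y) ^ k := by
          rw [zpow_eq_zpow_iff_modEq, ← ZMod.intCast_eq_intCast_iff, ZMod.intCast_zmod_cast]
      · exact ⟨.r k, hk⟩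
      · exact ⟨.sr k, by rw [dihedralHom_sr, hk]⟩
  exact ⟨((MonoidHom.ofInjective hinj).trans (MulEquiv.subgroupCongr hrange)).symm⟩

end Iso

end Cfsg.Agent.Involution
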