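import Cfsg.Agent.Lib.Involution.Dihedral
import Cfsg.Agent.Lib.Involution.BaerSuzuki

/-!
# Isolated involutions
-/

set_option autoImplicit false

namespace Cfsg.Agent.Involution

open Subgroup

variable {G : Type*} [Group G]

/-- Two commuting involutions generate a 2-group. -/
theorem isPGroup_closure_pair_of_commute {x y : G} (hx : x * x = 1) (hy : y * y = 1)
    (h : Commute x y) : IsPGroup 2 (closure ({x, y} : Set G)) := by
  intro d
  refine ⟨1, Subtype.ext ?_⟩
  simp only [pow_one, pow_two, Subgroup.coe_mul, Subgroup.coe_one]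
  obtain ⟨k, hk | hk⟩ := (mem_closure_pair_involutions hx hy).mp d.2
  · rw [hk, ← zpow_add, ← two_mul, zpow_mul, zpow_two,
      show x * y * (x * y) = 1 by nth_rewrite 1 [h.eq]; rw [mul_assoc, ← mul_assoc x x, hx, one_mul, hy], one_zpow]
  · rw [hk]; exact left_mul_zpow_sq hx hy k

/-- An element of a Sylow subgroup that is conjugate to no other element of it is conjugate to no
other element of any `p`-subgroup that contains it. -/
theorem isolated_eq_of_mem [Finite G] {p : ℕ} [Fact p.Prime] {P : Sylow p G} {u : G}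
    (hiso : ∀ g : G, g * u * g⁻¹ ∈ P → g * u * g⁻¹ = u) {L : Subgroup G}
    (hL : IsPGroup p L) (hu : u ∈ L) {w : G} (hw : w ∈ L) (hconj : IsConj u w) : w = u := by
  obtain ⟨Q, hQ⟩ := hL.exists_le_sylow
  obtain ⟨c, hc⟩ := MulAction.exists_smul_eq G Q P
  obtain ⟨g, rfl⟩ := isConj_iff.mp hconj
  have e1 : c * u * c⁻¹ = u := hiso c (hc ▸ conj_mem_sylow_smul c (hQ hu))
  have e2 : c * (g * u * g⁻¹) * c⁻¹ = u := by
    have h2 : c * (g * u * g⁻¹) * c⁻¹ ∈ P := hc ▸ conj_mem_sylow_smul c (hQ hw)
    rw [show c * (g * u * g⁻¹) * c⁻¹ = c * g * u * (c * g)⁻¹ by group] at h2 ⊢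
    exact hiso _ h2
  exact (MulAut.conj c).injective (e2.trans e1.symm)

/-- Two distinct commuting involutions cannot be conjugate when one is isolated. -/
theorem isolated_eq_of_commute [Finite G] {P : Sylow 2 G} {u : G}
    (hiso : ∀ g : G, g * u * g⁻¹ ∈ P → g * u * g⁻¹ = u) (hu : u * u = 1) {w : G}
    (hc : Commute u w) (hconj : IsConj u w) : w = u := by
  haveI : Fact (Nat.Prime 2) := ⟨Nat.prime_two⟩
  have hw : w * w = 1 := by
    obtain ⟨g, rfl⟩ := isConj_iff.mp hconj
    calc g * u * g⁻¹ * (g * u * g⁻¹) = g * (u * u) * g⁻¹ := by group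
      _ = 1 := by rw [hu]; group
  exact isolated_eq_of_mem hiso (isPGroup_closure_pair_of_commute hu hw hc)
    (subset_closure (by simp)) (subset_closure (by simp)) hconj

end Cfsg.Agent.Involution
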